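/-
Quasithin groups of even type: pairs of conjugates of a standard component.
-/
import Cfsg.Agent.Known.Q16.Lab
set_option autoImplicit false
set_option linter.unusedSectionVars false

namespace CF.Q17
open Subgroup Cfsg CF.BG CF.Sig CF.CT CF.CmpT CF.PG CF.Bender CF.SM CF.Q16
open CF.ZD (iv_pi)
open scoped commutatorElement

variable {G : Type*} [Group G]

/-- the conjugates of a standard component -/
structure Fm (P : Subgroup G → Prop) : Prop where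
  sq : ∀ {D : Subgroup G}, PiGrp {2} D → D ≠ ⊥ → SQ (𝐍 D)
  pf : commutator G = ⊤
  cj : ∀ {A}, P A → ∀ g, P (cj g A)
  tr : ∀ {A B}, P A → P B → ∃ g, BG.cj g A = B
  ti : ∀ {A B s}, P A → P B → Iv s → s ∈ 𝐂 A → s ∈ 𝐂 B → A = B
  syl : ∀ {A}, P A → ∃ T, Syl 2 T ⊤ ∧ T ≤ 𝐍 A
  four : ∀ {A}, P A → Four A

/-- the points attached to a 2-subgroup -/
structure Gm (P : Subgroup G → Prop) (X A : Subgroup G) : Prop where
  p : P A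
  n : X ≤ 𝐍 A
  ne : X ⊓ 𝐂 A ≠ ⊥

/-- a largest 2-subgroup with two points -/
structure Cf (P : Subgroup G → Prop) (X : Subgroup G) : Prop extends Fm P where
  pi : PiGrp {2} X
  ex : ∃ A B, A ≠ B ∧ Gm P X A ∧ Gm P X B
  mx : ∀ {Y A B}, PiGrp {2} Y → A ≠ B → Gm P Y A → Gm P Y B → ♯Y ≤ ♯X

/-- an involution of `N(X) / X` fixing a point -/
structure Mv (X A : Subgroup G) (k : G) : Prop where
  nx : k ∈ 𝐍 X
  na : k ∈ 𝐍 A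
  nm : k ∉ X
  sq : k * k ∈ X

variable [Finite G] {P : Subgroup G → Prop}
variable {A B C D E K L M N Q R S T U V W X Y Z : Subgroup G}
  {g j k l r s t u v w x y z σ : G} {p : ℕ}

theorem ex_c (k : PiGrp {2} X) (n : X ≤ 𝐍 N) (h : X ⊓ N ≠ ⊥) : ∃ z ∈ X, z ∈ N ∧ Iv z ∧ z ∈ 𝐂 X := by
  obtain ⟨z, hz, o⟩ := exists_center p2 k (normalIn_inf_left n) h
  exact ⟨z, hz.1.1, hz.1.2, iv_of o, hz.2.2⟩

theorem ex_c' (k : PiGrp {2} X) (n : X ≤ 𝐍 N) (l : N ≤ X) (h : N ≠ ⊥) : ∃ z ∈ N, Iv z ∧ z ∈ 𝐂 X := by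
  obtain ⟨z, -, a, b⟩ := ex_c k n (by rwa [inf_eq_right.2 l])
  exact ⟨z, a, b⟩

theorem comm_mem (n : x ∈ 𝐍 N) (h : y ∈ N) : ⁅x, y⁆ ∈ N :=
  commutatorElement_def x y ▸ mul_mem (conj_mem_of_norm n h) (inv_mem h)

theorem comm_mem' (n : x ∈ 𝐍 N) (h : y ∈ N) : ⁅y, x⁆ ∈ N :=
  commutatorElement_inv x y ▸ inv_mem (comm_mem n h)

theorem c1_iff : ⁅x, y⁆ = 1 ↔ x ∈ 𝐂₁ y := by rw [commutatorElement_eq_one_iff_mul_comm, mem_cent1]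

theorem cen_mod (k : PiGrp {2} X) (l : N ≤ X) (n : X ≤ 𝐍 N) (m : X ≤ 𝐍 M) (h : ¬ N ≤ M) :
    ∃ y ∈ N, y ∉ M ∧ y * y ∈ M ∧ ∀ x ∈ X, ⁅y, x⁆ ∈ M := by
  obtain ⟨_, a, i, c⟩ := ex_c' (k.qt M) (qt_norm M n) (qt_mono M l) (mt (qt_eq_bot (l.trans m)).1 h)
  obtain ⟨y, a', b, rfl⟩ := mem_qt.1 a
  exact ⟨y, a', fun q => i.ne (qe_of_mem q), (qe_eq_one (mul_mem b b)).1 (qe_mul b b ▸ i.sq), fun x hx =>
    (qe_eq_one (commutatorElement_def y x ▸ mul_mem (mul_mem (mul_mem b (m hx)) (inv_mem b)) (inv_mem (m hx)))).1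
      (qe_comm b (m hx) ▸ c1_iff.2 (cent_le_cent1 (qe_mem_qt hx (m hx)) c))⟩

theorem pe_of_sq (h : PiElt {2} (x * x)) : PiElt {2} x := by
  obtain ⟨i, hi⟩ := PiNat.exists_pow h (orderOf_pos _).ne'
  exact (piNat_pow_self p2 (i + 1)).dvd (orderOf_dvd_of_pow_eq_one (by
    rw [pow_succ', pow_mul, pow_two, ← hi, pow_orderOf_eq_one]))

theorem conj_cent (h : x ∈ 𝐂 A) (g : G) : g * x * g⁻¹ ∈ 𝐂 (cj g A) := cj_cent g A ▸ conj_mem_cj.2 h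
theorem conj_norm (h : x ∈ 𝐍 A) (g : G) : g * x * g⁻¹ ∈ 𝐍 (cj g A) := cj_norm g A ▸ conj_mem_cj.2 h
theorem conj_fix (h : g ∈ 𝐂₁ x) : g * x * g⁻¹ = x := by rw [mem_cent1.1 h, mul_inv_cancel_right]
theorem conj_fix' (h : x ∈ 𝐂₁ g) : g * x * g⁻¹ = x := conj_fix (mem_cent1_comm.1 h)
theorem c1_of (h : x ∈ 𝐂 A) (m : y ∈ A) : y ∈ 𝐂₁ x := le_cent1_iff.2 h m
theorem c1_of' (h : x ∈ 𝐂 A) (m : y ∈ A) : x ∈ 𝐂₁ y := cent_le_cent1 m h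

namespace Fm
variable (F : Fm P)
include F

theorem cn (a : P A) (i : Iv s) (c : s ∈ 𝐂 A) : 𝐂₁ s ≤ 𝐍 A := fun g hg =>
  cj_eq_self.1 (F.ti (F.cj a g) a i (conj_fix hg ▸ conj_cent c g) c)

theorem one (a : P A) (b : P B) (n : A ≠ B) (k : PiElt {2} s) (c : s ∈ 𝐂 A) (d : s ∈ 𝐂 B) : s = 1 :=
  by_contra fun q => let ⟨_, m, i⟩ := ex_iv k q; n (F.ti a b i (zpowers_le.2 c m) (zpowers_le.2 d m))

theorem gm (a : P A) (m : z ∈ X) (i : Iv z) (c : z ∈ 𝐂 X) (d : z ∈ 𝐂 A) : Gm P X A :=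
  ⟨a, (le_cent1_iff.2 c).trans (F.cn a i d), ne_bot_of_mem ⟨m, d⟩ i.ne⟩

theorem gcj (a : Gm P X A) (n : g ∈ 𝐍 X) : Gm P X (BG.cj g A) :=
  ⟨F.cj a.p g, by rw [← cj_of_norm n, cj_norm_iff]; exact a.n,
    by rw [← cj_of_norm n, ← cj_cent, ← cj_inf, Ne, cj_eq_bot]; exact a.ne⟩

theorem exT (a : P A) (k : PiGrp {2} X) (n : X ≤ 𝐍 A) : ∃ T, Syl 2 T ⊤ ∧ X ≤ T ∧ T ≤ 𝐍 A := by
  obtain ⟨T, s, l⟩ := F.syl a
  obtain ⟨g, hg, q⟩ := (s.of_le l le_top).syl_le_cj n k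
  exact ⟨_, s.cj_top g, q, cj_le_of_mem hg l⟩

end Fm

theorem Gm.mono (a : Gm P X A) (l : X ≤ Y) (n : Y ≤ 𝐍 A) : Gm P Y A :=
  ⟨a.p, n, ne_bot_mono a.ne (inf_le_inf_right _ l)⟩

theorem Gm.nc (a : Gm P X A) : X ≤ 𝐍 (𝐂 A) := norm_cent a.n

theorem Mv.cj (h : Mv X A k) (n : g ∈ 𝐍 X) : Mv X (cj g A) (g * k * g⁻¹) :=
  ⟨mul_mem (mul_mem n h.nx) (inv_mem n), conj_norm h.na g, mt (mem_norm.1 n k).2 h.nm,
    by rw [conj_mul]; exact conj_mem_of_norm n h.sq⟩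

theorem Mv.of_mul (h : Mv X A (k * x)) (n : X ≤ 𝐍 A) (m : x ∈ X) : Mv X A k := by
  have e : k = k * x * x⁻¹ := by group
  have a : k ∈ 𝐍 X := e ▸ mul_mem h.nx (inv_mem (le_norm_self X m))
  refine ⟨a, e ▸ mul_mem h.na (inv_mem (n m)), fun q => h.nm (mul_mem q m), ?_⟩
  have := mul_mem (mul_mem h.sq (inv_mem m)) (inv_mem (conj_mem_of_norm' a m))
  rwa [show k * x * (k * x) * x⁻¹ * (k⁻¹ * x * k)⁻¹ = k * x * (k * k⁻¹) * x⁻¹ * k by group,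
    mul_inv_cancel, mul_one, mul_inv_cancel_right] at this

theorem ex_mv (k : PiGrp {2} S) (l : X ≤ S) (h : ¬ S ≤ X) (n : S ≤ 𝐍 A) : ∃ k ∈ S, Mv X A k := by
  obtain ⟨g, a, b⟩ := SetLike.exists_of_lt (k.nil.lt_inf_norm (lt_of_le_not_ge l h))
  obtain ⟨x, c, d, e⟩ := exists_sq_mem (k.elt a.1) b
  have := zpowers_le.2 a c
  exact ⟨x, this.1, this.2, n this.1, d, pow_two x ▸ e⟩

namespace Cf
variable (F : Cf P X)
include F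

theorem exz (a : Gm P X A) : ∃ z ∈ X, z ∈ 𝐂 A ∧ Iv z ∧ z ∈ 𝐂 X := ex_c F.pi a.nc a.ne

theorem other (A : Subgroup G) : ∃ B, Gm P X B ∧ A ≠ B := by
  obtain ⟨B, C, n, b, c⟩ := F.ex
  by_cases q : A = B
  exacts [⟨C, c, q ▸ n⟩, ⟨B, b, q⟩]

theorem mv_pi (h : Mv X A k) : PiElt {2} k := pe_of_sq (F.pi.elt h.sq)

theorem mv_ns (h : Mv X A k) : ¬ Syl 2 X ⊤ := fun s => h.nm (s.mem_of_norm trivial h.nx (F.mv_pi h))

theorem exmv (ns : ¬ Syl 2 X ⊤) (a : Gm P X A) : ∃ k, Mv X A k := by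
  obtain ⟨T, s, l, n⟩ := F.exT a.p F.pi a.n
  obtain ⟨k, -, h⟩ := ex_mv s.pi l (fun q => ns (le_antisymm q l ▸ s)) n
  exact ⟨k, h⟩

variable (a : Gm P X A) (b : Gm P X B) (n : A ≠ B)
include a b n

theorem sy : Syl 2 X (𝐍 A ⊓ 𝐍 B) := syl_of_max (le_inf a.n b.n) F.pi fun _ l k m =>
  (eq_of_card_le m (F.mx k n (a.mono m (l.trans inf_le_left)) (b.mono m (l.trans inf_le_right)))).symm

theorem mem (k : PiElt {2} g) (x : g ∈ 𝐍 X) (p : g ∈ 𝐍 A) (q : g ∈ 𝐍 B) : g ∈ X :=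
  (F.sy a b n).mem_of_norm ⟨p, q⟩ x k

theorem le (k : PiGrp {2} S) (x : S ≤ 𝐍 X ∨ X ≤ 𝐍 S) (p : S ≤ 𝐍 A) (q : S ≤ 𝐍 B) : S ≤ X :=
  (F.sy a b n).le_of_norm (le_inf p q) k x

omit n in
theorem fix (h : Mv X A k) (q : k ∈ 𝐍 B) : A = B := by_contra fun n =>
  h.nm (F.mem a b n (F.mv_pi h) h.nx h.na q)

theorem pair (h : Mv X A k) (h' : Mv X B l) : ∃ σ ∈ 𝐍 X, σ * σ ∈ X ∧ cj σ A = B ∧
    qe X σ * qe X k * (qe X σ)⁻¹ = qe X l := by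
  have s : ∀ {A k}, Mv X A k → qe X k * qe X k = 1 := fun h => qe_mul h.nx h.nx ▸ qe_of_mem h.sq
  have f : ∀ {A B k l σ}, Gm P X A → Gm P X B → Mv X A k → Mv X B l → σ ∈ 𝐍 X →
      qe X σ * qe X k * (qe X σ)⁻¹ = qe X l → cj σ A = B := fun {A B k l σ} a b h h' m e => by
    have c := F.gcj a m
    have := mul_mem (h.cj m).na (c.n ((qe_eq_iff (h.cj m).nx h'.nx).1 (qe_conj m h.nx ▸ e)))
    rw [mul_inv_cancel_left] at this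
    exact (F.fix b c h' this).symm
  rcases Nat.even_or_odd (orderOf (qe X k * qe X l)) with o | o
  · obtain ⟨z, -, o, c, d⟩ := Invol.exists_central_invol (s h) (s h') o
    obtain ⟨z, m, rfl⟩ := exists_qe z
    exact absurd (qe_of_mem (F.mem a b n (pe_of_sq (F.pi.elt ((qe_eq_one (mul_mem m m)).1
      (qe_mul m m ▸ (iv_of o).sq)))) m (cj_eq_self.1 (f a a h h m (by rw [c.eq, mul_inv_cancel_right])))
      (cj_eq_self.1 (f b b h' h' m (by rw [d.eq, mul_inv_cancel_right]))))) (iv_of o).ne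
  · obtain ⟨i, e⟩ := Invol.exists_pow_conj_of_odd (s h) (s h') o
    have i1 := inv_eq_of_mul_eq_one_right (s h)
    have m := pow_mem (mul_mem h.nx h'.nx) i
    have m' := mul_mem m h.nx
    have q : qe X ((k * l) ^ i * k) = (qe X k * qe X l) ^ i * qe X k := by
      rw [qe_mul m h.nx, qe_pow (mul_mem h.nx h'.nx), qe_mul h.nx h'.nx]
    have e' : qe X ((k * l) ^ i * k) * qe X k * (qe X ((k * l) ^ i * k))⁻¹ = qe X l := by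
      rw [q, mul_assoc _ (qe X k) (qe X k), s h, mul_one, mul_inv_rev, i1, ← mul_assoc, e]
    refine ⟨_, m', (qe_eq_one (mul_mem m' m')).1 ?_, f a b h h' m' e', e'⟩
    have : qe X k * (qe X k * qe X l) ^ i * (qe X k)⁻¹ = ((qe X k * qe X l) ^ i)⁻¹ := by
      rw [← conj_pow, ← inv_pow, ← mul_assoc, s h, one_mul, mul_inv_rev, inv_eq_of_mul_eq_one_right (s h')]
    rw [i1] at this
    rw [qe_mul m' m', q, mul_assoc, ← mul_assoc (qe X k), this, mul_inv_cancel]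

theorem sigma (ns : ¬ Syl 2 X ⊤) : ∃ σ ∈ 𝐍 X, σ * σ ∈ X ∧ cj σ A = B ∧ cj σ B = A := by
  obtain ⟨k, h⟩ := F.exmv ns a
  obtain ⟨l, h'⟩ := F.exmv ns b
  obtain ⟨σ, m, s, e, -⟩ := F.pair a b n h h'
  exact ⟨σ, m, s, e, by rw [← e, cj_cj, cj_of_norm (a.n s)]⟩

omit n in
theorem trans : ∃ g ∈ 𝐍 X, cj g A = B := by
  by_cases n : A = B
  · exact ⟨1, one_mem _, n ▸ cj_one A⟩
  by_cases s : Syl 2 X ⊤
  · obtain ⟨g, rfl⟩ := F.tr a.p b.p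
    obtain ⟨h, m, e⟩ := ((s.cj_top g).of_le (cj_norm_iff.2 a.n) le_top).syl_conj (s.of_le b.n le_top)
    exact ⟨h * g, cj_eq_self.1 (cj_cj h g X ▸ e.symm), by rw [← cj_cj, cj_of_norm m]⟩
  · obtain ⟨σ, m, -, e, -⟩ := F.sigma a b n s
    exact ⟨σ, m, e⟩

theorem third : ∃ C, Gm P X C ∧ A ≠ C ∧ B ≠ C := by
  by_cases s : Syl 2 X ⊤
  · obtain ⟨g, m, rfl⟩ := F.trans a b
    refine ⟨_, F.gcj b m, fun e => n (cj_of_norm ?_).symm, fun e => n (cj_inj.1 e)⟩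
    obtain ⟨y, z, hy, hz, ky, kz, q⟩ := exists_piPart {2} g
    rw [cj_cj, eq_comm, cj_eq_self] at e
    exact q ▸ mul_mem (a.n (s.mem_of_norm trivial (zpowers_le.2 m hy) ky))
      (((i2_sup (mem_zpowers (g * g)) (cent_le_norm _ (by rw [cent_zpowers]; exact mem_cent1.2 (mul_assoc g g g).symm))).mono (zpowers_le.2 e) le_sup_right).odd hz kz)
  · obtain ⟨k, h⟩ := F.exmv s a
    exact ⟨_, F.gcj b h.nx, fun e => n (by rw [← cj_inj (g := k), cj_of_norm h.na, e]),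
      fun e => n (F.fix a b h (cj_eq_self.1 e.symm))⟩

omit b in
theorem fat (b : P B) (m : j ∈ X) (i : Iv j) (c : j ∈ 𝐂 X) (d : j ∈ 𝐂 B) : Syl 2 (X ⊓ A) (A ⊓ 𝐂₁ j) := by
  have l := le_cent1_iff.2 c
  have := ((F.sy a (F.gm b m i c d) n).of_le le_sup_right (sup_le (inf_le_inf (le_norm_self A) (F.cn b i d))
    (le_inf a.n (l.trans (F.cn b i d))))).inf_normal (normalIn_sup_left (norm_inf a.n (norm_of_le l)))
  rwa [← inf_assoc, inf_eq_left.2 (inf_le_left.trans l)] at this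

omit b n in
theorem inA (m : s ∈ A) (h : Mv X A s) (h' : Mv X A k) : k ∈ A ⊔ X := by
  obtain ⟨B, b, n⟩ := F.other A
  obtain ⟨l, q⟩ := F.exmv (F.mv_ns h) b
  obtain ⟨σ, m1, -, e1, f1⟩ := F.pair a b n h q
  obtain ⟨τ, m2, -, e2, f2⟩ := F.pair a b n h' q
  have m3 := mul_mem (inv_mem m2) m1
  have m4 : τ⁻¹ * σ ∈ 𝐍 A := cj_eq_self.1 (by rw [← cj_cj, e1, ← e2, cj_inv_cj])
  have := mul_mem_sup (conj_mem_of_norm m4 m) ((qe_eq_iff (h.cj m3).nx h'.nx).1 (by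
    rw [qe_conj m3 h.nx, qe_mul (inv_mem m2) m1, qe_inv m2, ← mul_left_cancel_iff (a := qe X τ),
      ← mul_right_cancel_iff (a := (qe X τ)⁻¹), f2, ← f1]; group))
  rwa [mul_inv_cancel_left] at this

omit b in
theorem b2 (m : s ∈ A) (h : Mv X A s) (h' : Mv X A k) (b : P B) (x : j ∈ X) (i : Iv j) (c : j ∈ 𝐂 X)
    (d : j ∈ 𝐂 B) : ⁅k, j⁆ ∈ A ∧ ⁅k, j⁆ ≠ 1 := by
  refine ⟨?_, fun e => n (F.fix a (F.gm b x i c d) h' (F.cn b i d (c1_iff.1 e)))⟩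
  obtain ⟨u, p, v, q, rfl⟩ := (mem_sup_norm' a.n).1 (F.inA a m h h')
  rw [commutatorElement_mul_left_eq_conj_mul, c1_iff.2 (c1_of c q), mul_one, mul_inv_cancel, one_mul]
  exact comm_mem' (a.n x) p

omit b n in
theorem b1 (z : 𝐙 A = ⊥) (m : s ∈ A) (h : Mv X A s) (k : PiGrp {2} S) (l : X ≤ 𝐍 S) (q : S ≤ 𝐂 A) : S ≤ X :=
  by_contra fun r => by
    obtain ⟨B, b, n⟩ := F.other A
    obtain ⟨j, x, d, i, c⟩ := F.exz b
    obtain ⟨_, u, v⟩ := ex_mv (k.sup F.pi (.inr l)) le_sup_right (fun e => r (le_sup_left.trans e))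
      (sup_le (q.trans (cent_le_norm A)) a.n)
    obtain ⟨u, p, w, e, rfl⟩ := (mem_sup_norm' l).1 u
    have := F.b2 a n m h (v.of_mul a.n e) b.p x i c d
    exact this.2 (z.le ⟨this.1, comm_mem' (a.nc x) (q p)⟩)

omit b n in
theorem exs (h : ¬ Syl 2 (X ⊓ A) A) : ∃ s ∈ A, Mv X A s := by
  obtain ⟨T, s, l, q⟩ := F.exT a.p F.pi a.n
  have u := (s.of_le q le_top).inf_normal (normalIn_norm A)
  have r : X ≤ 𝐍 (T ⊓ A) := norm_inf (norm_of_le l) a.n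
  obtain ⟨_, u, v⟩ := ex_mv (u.pi.sup F.pi (.inr r)) le_sup_right (fun e => h (by
    rwa [le_antisymm (inf_le_inf_right A l) (le_inf (le_sup_left.trans e) inf_le_right)]))
    (sup_le (inf_le_left.trans q) a.n)
  obtain ⟨y, p, w, e, rfl⟩ := (mem_sup_norm' r).1 u
  exact ⟨y, p.2, v.of_mul a.n e⟩

omit n in
theorem syl_tr (h : Syl 2 (X ⊓ A) A) : Syl 2 (X ⊓ B) B := by
  obtain ⟨g, m, rfl⟩ := F.trans a b
  have := h.cj g
  rwa [cj_inf, cj_of_norm m] at this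

end Cf
end CF.Q17
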