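/-
Quasithin groups of even type: the properties of the components used to identify `J₁`.
-/
import Cfsg.Agent.Known.Q17.Fr
import Cfsg.Agent.Known.Q16.Nc
set_option autoImplicit false
set_option linter.unusedSectionVars false

namespace CF.Q17
open Subgroup Cfsg CF.BG CF.Sig CF.CT CF.CmpT CF.PG CF.Bender CF.SM CF.Q16
open CF.ZD (iv_pi)
open scoped commutatorElement

section
variable {G : Type*} [Group G]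

/-- the elements inducing inner automorphisms -/
abbrev In (A : Subgroup G) : Subgroup G := A ⊔ 𝐂 A

/-- `r` centralizes a Sylow 2-subgroup of `A` -/
def Cn (A : Subgroup G) (r : G) : Prop := ∃ U, Syl 2 U A ∧ r ∈ 𝐂 U

/-- cyclic Sylow 2-subgroups of the outer automorphism group -/
structure Cy (A : Subgroup G) : Prop where
  ab : ∀ S ≤ 𝐍 A, PiGrp {2} S → ⁅S, S⁆ ≤ In A
  i2 : ∀ S ≤ 𝐍 A, PiGrp {2} S → ∀ a ∈ S, ∀ b ∈ S, a ∉ In A → b ∉ In A → a * a ∈ In A → b * b ∈ In A →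
    a * b ∈ In A

/-- only one involutory automorphism centralizes `U` -/
def A2 (A U : Subgroup G) : Prop := ∀ y ∈ 𝐍 A, ∀ w ∈ 𝐍 A, Iv y → Iv w → y ∈ 𝐂 U → w ∈ 𝐂 U →
  y ∉ 𝐂 A → w ∉ 𝐂 A → y * w ∈ 𝐂 A

structure AB (A U : Subgroup G) : Prop where
  n1 : ∀ y ∈ 𝐍 A, PiElt {2} y → y ∈ 𝐂 U → y ∈ In A
  el : ∀ v ∈ U, v ∈ 𝐂 U → v * v = 1
  fp : ∀ v ∈ U, v ∈ 𝐂 (A ⊓ 𝐍 U) → v = 1

/-- `U₃(q)`, `L₃(q)`, `G₂(q)`, `³D₄(q)`, `²F₄(q)`, `q > 2` -/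
structure AN (A U : Subgroup G) : Prop extends AB A U where
  k : ∀ y ∈ 𝐍 A, PiElt {2} y → y ∈ 𝐍 U → (∀ u ∈ U, ⁅y, u⁆ ∈ 𝐂 U) →
    y ∈ 𝐂 U ∨ ∀ z ∈ U, z ∈ 𝐂 U → ∃ u ∈ U, z = ⁅y, u⁆
  na : ¬ U ≤ 𝐂 U

/-- `Sz(q)`, `Sp₄(q)`, `q > 2` -/
structure AS (A U : Subgroup G) : Prop extends AB A U where
  cy : Cy A
  dz : U ⊓ 𝐂 U ≤ ⁅U, U⁆
  sq : ∀ u ∈ U, u * u ∈ 𝐂 U
  s1 : ∀ y ∈ U, y ∉ 𝐂 U → ∀ a ∈ U, ∀ b ∈ U, a ∈ 𝐂₁ y → b ∈ 𝐂₁ y → a ∈ 𝐂₁ b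
  k3 : ∀ y ∈ U, I2 (𝐂₁ y) U → y ∈ 𝐂 U
  cz : ∀ y ∈ 𝐍 A, PiElt {2} y → y ∈ 𝐍 U → y ∈ 𝐂 (U ⊓ 𝐂 U) → y ∈ In A
  na : ¬ U ≤ 𝐂 U

/-- `L₂(q)` -/
structure AL (A U : Subgroup G) : Prop extends AB A U where
  cy : Cy A
  ab : U ≤ 𝐂 U
  tr : ∀ u ∈ U, ∀ v ∈ U, u ≠ 1 → v ≠ 1 → ∃ b ∈ A ⊓ 𝐍 U, b * u * b⁻¹ = v
  fx : ∀ u ∈ U, u ≠ 1 → A ⊓ 𝐂₁ u ≤ U
  a : (∀ y ∈ 𝐍 A, PiElt {2} y → y ∈ 𝐍 U → I2 (𝐂₁ y) U → y ∈ 𝐂 U) ∨ ♯U = 4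
  c60 : ♯U = 4 → ♯A = 60

/-- outer involutions, cyclic case -/
structure KO (A U : Subgroup G) : Prop where
  cy : Cy A
  c : ∀ w ∈ 𝐍 A, PiElt {2} w → w ∈ 𝐍 U → (∀ e ∈ U, e ∈ 𝐂 U → e * e = 1 → e ∈ 𝐂₁ w) → w * w ∈ In A

/-- outer involutions, `L₃(q)` -/
structure OW (A U : Subgroup G) : Prop where
  ab : ∀ S ≤ 𝐍 A, PiGrp {2} S → ⁅S, S⁆ ≤ In A
  ko : ∀ S ≤ 𝐍 A ⊓ 𝐍 U ⊓ 𝐂 (U ⊓ 𝐂 U), PiGrp {2} S → I2 (In A) S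
  four : Four (U ⊓ 𝐂 U : Subgroup G)
  c2 : ⁅U, U⁆ ≤ 𝐂 U
  cn : ∀ a ∈ A, Iv a → Cn A a
  f : ∀ j ∈ 𝐍 A, Iv j → j ∈ 𝐍 U → j ∉ In A → j ∈ 𝐂 (U ⊓ 𝐂 U) ∨ ∃ a ∈ U ⊓ 𝐂₁ j, ∃ b ∈ U ⊓ 𝐂₁ j, a ∉ 𝐂₁ b
  g : ∀ j ∈ 𝐍 A, Iv j → j ∈ 𝐍 U → j ∉ In A → ∀ a ∈ U, a ∈ 𝐂 U → a ∈ 𝐂₁ j → ∃ g ∈ A, g * j * g⁻¹ = j * a

/-- `G₂(q)` (`e = 2`), `³D₄(q)` (`e = 4`) -/
structure W1 (Y U P : Subgroup G) (e : ℕ) (r : G) : Prop where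
  cy : Cy Y
  sU : Syl 2 U Y
  sP : Syl 2 P (Y ⊓ 𝐂₁ r)
  cz : ∀ y, PiElt {2} y → y ∈ 𝐍 U → y ∈ 𝐂 (U ⊓ 𝐂 U) → y ∈ Y
  pw : ∀ x ∈ P, x ^ e ∈ U ⊓ 𝐂 U
  om : ∀ l ∈ U ⊓ 𝐂 U, ∃ x ∈ P, x ^ e = l
  a : ∀ l ∈ U ⊓ 𝐂 U, ∃ g ∈ Y, g * r * g⁻¹ = r * l
  ex : ∀ M : Subgroup G, ((∀ y : G, PiElt {2} y → y ∈ Y) → P ≤ M) →
    (∀ u ∈ P, ∀ v ∈ P, u * u = 1 → v * v = 1 → u ∉ M → v ∉ M → u * v ∈ M) → ∃ x ∈ P, x ∈ M ∧ x ^ e ≠ 1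

/-- `²F₄(q)`, `q > 2` -/
structure W2 (Y P : Subgroup G) (r : G) : Prop where
  od : ∀ y : G, PiElt {2} y → y ∈ Y
  sP : Syl 2 P (Y ⊓ 𝐂₁ r)
  na : ¬ P ≤ 𝐂 P
  a : ∀ y ∈ P, (∀ x ∈ P, ⁅y, x⁆ ∈ 𝐂 P) → ∀ x ∈ P, ⁅y, x⁆ ≠ 1 →
    Iv ⁅y, x⁆ ∧ Cn Y ⁅y, x⁆ ∧ ∃ g ∈ Y, g * r * g⁻¹ = r * ⁅y, x⁆

/-- `²F₄(2)'`, `M₂₄`, `L₅(2)`, `A₈` -/
structure T2 (Y : Subgroup G) (p : ℕ) (r : G) : Prop where
  pr : p.Prime ∧ p ≠ 2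
  i2 : I2 Y ⊤
  rk : 2 ≤ pRank p Y
  t1 : ∀ s, Iv s → s ∈ 𝐂₁ r → s ≠ r → s ∈ 𝐂 (Ep p (Y ⊓ 𝐂₁ r)) → r ∈ 𝐂 (Ep p (Y ⊓ 𝐂₁ s)) →
    ∃ x ∈ Y ⊓ 𝐂₁ r ⊔ Y ⊓ 𝐂₁ s, x ^ p = 1 ∧ x * r * x⁻¹ = s ∧ x * s * x⁻¹ = r * s
  t2 : ∀ y ∈ Y, y ∈ 𝐂 (Ep p (Y ⊓ 𝐂₁ r)) → y * y ≠ r

/-- elements whose lifts to a cover centralize the lifts of `v` -/
def X0 (fc : Prop) (Y : Subgroup G) (v : G) : Subgroup G := closure {x | x ∈ Y ∧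
  ((∃ s ∈ Y ⊓ 𝐂₁ v, x = s * s) ∨ (∃ n : ℕ, x ^ n = v) ∨ fc ∧ x ∈ 𝐂₁ v ∧ x * x = 1)}

/-- involutions which are not 2-central, with `D = O^{p'}(C_Y(r))` of even order -/
structure DC (Y : Subgroup G) (fs fc : Prop) (p k : ℕ) (r : G) (Q : Subgroup G) : Prop where
  pr : p.Prime ∧ p ≠ 2
  rk : 2 ≤ pRank p Y
  nm : r ∉ Ep p (Y ⊓ 𝐂₁ r)
  le : Q ≤ Ep p (Y ⊓ 𝐂₁ r)
  pi : PiGrp {2} Q
  ne : Q ≠ ⊥
  nd : ¬ 2 ^ k ∣ ♯(Y ⊓ 𝐂₁ r : Subgroup G)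
  bg : ∀ l ∈ Ep p (Y ⊓ 𝐂₁ r), l ∈ 𝐂 Q → Iv l → 2 ^ k ∣ ♯(X0 fc Y l ⊔ Ep p (Y ⊓ 𝐂₁ r) ⊓ 𝐂₁ l : Subgroup G) ∧
    ∀ m ∈ Ep p (Y ⊓ 𝐂₁ r), Iv m → ∃ g ∈ Y, g * m * g⁻¹ = l
  a : ∃ m ∈ Ep p (Y ⊓ 𝐂₁ r), ∃ a ∈ Y, a * r * a⁻¹ = r * m ∧ (fs ∧ m ≠ 1 ∨
    ∃ ρ ∈ Ep p (Y ⊓ 𝐂₁ r), m * (ρ * m * ρ⁻¹) ≠ 1 ∧ a ∈ X0 fc Y (ρ * m * ρ⁻¹))

/-- elements of order `p` induce inner automorphisms -/
def Ot (Y : Subgroup G) (p : ℕ) : Prop := ∀ x ∈ 𝐍 Y, x ^ p = 1 → x ∈ In Y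

/-- the data for an inner involution which is not 2-central -/
def Ci (Y : Subgroup G) (r : G) : Prop := (∃ U P e, W1 Y U P e r) ∨ (∃ P, W2 Y P r) ∨ (∃ p, T2 Y p r) ∨
  ∃ p k Q, Ot Y p ∧ DC Y True True p k r Q

/-- what is needed for a simple component -/
structure Z1 (Y U : Subgroup G) : Prop where
  syl : Syl 2 U Y
  ca : A2 Y U ∨ AN Y U ∨ AS Y U ∨ AL Y U
  co : KO Y U ∨ OW Y U
  ci : ∀ r ∈ Y, Iv r → Cn Y r ∨ ∃ g, Ci Y (g * r * g⁻¹)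

/-- 2-central involutions acting on a double cover -/
structure CC (Y U B : Subgroup G) (p m : ℕ) (u : G) : Prop where
  pr : p.Prime ∧ p ≠ 2
  rk : 2 ≤ pRank p Y
  ot : Ot Y p
  syl : Syl 2 U Y
  iu : Iv u
  cu : u ∈ 𝐂 U
  i2 : I2 (Ep p (Y ⊓ 𝐂₁ u)) (Y ⊓ 𝐂₁ u)
  sD : ∀ v, Iv v → v ∈ 𝐂 U → v ∈ B
  mB : ∀ v ∈ Y, v ∈ 𝐂 (Ep p (Y ⊓ 𝐂₁ u)) → v * v = 1 → v ∈ B
  tr : ∀ v ∈ B, v ≠ 1 → ∃ g ∈ Y ⊓ 𝐍 (Ep p (Y ⊓ 𝐂₁ u)), g * v * g⁻¹ = u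
  p2 : ∀ y ∈ Y, y ^ m * y ^ m = 1 → y ^ m ≠ 1 → ∃ g ∈ Y, g * y ^ m * g⁻¹ = u
  p1 : ∃ x ∈ Y, x ^ m * x ^ m = u ∧ x ^ m ∈ Ep p (Y ⊓ 𝐂₁ u) ∧ (x ∈ Ep p (Y ⊓ 𝐂₁ u) ∨
    PiElt {2} x ∧ (∀ y : G, y ^ m * y ^ m = u → y ∈ Y) ∧
      ∀ y : G, PiElt {2} y → y ∈ 𝐂 (Ep p (Y ⊓ 𝐂₁ u)) → y = 1 ∨ y = u)

/-- what is needed for a double cover -/
structure Z2 (Y : Subgroup G) : Prop where
  cc : ∃ U B p m u, CC Y U B p m u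
  dc : ∀ r, Iv r → Cn Y r ∨ ∃ g p k Q, Ot Y p ∧ DC Y False False p k (g * r * g⁻¹) Q

end

variable {G H : Type*} [Group G] [Group H] [Finite G] [Finite H]

/-- all points act through the model `Y` -/
def Md (P : Subgroup G → Prop) (Y : Subgroup H) : Prop := ∀ A, P A → ∃ φ, Act A φ Y

variable {P : Subgroup G → Prop} {A B D E K L M N Q R S T U V W X : Subgroup G} {φ : 𝐍 A →* H}
  {Y U₀ : Subgroup H} {a b g j k l r s t u v w x y z : G} {p : ℕ}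

theorem in_le : In A ≤ 𝐍 A := sup_le (le_norm_self A) (cent_le_norm A)
theorem norm_in : 𝐍 A ≤ 𝐍 (In A) := norm_sup le_rfl (norm_le_norm_cent A)
theorem in_dec (h : g ∈ In A) : ∃ l ∈ A, ∃ k ∈ 𝐂 A, l * k = g := (mem_sup_norm' (cent_le_norm A)).1 h
theorem in_top (c : 𝐂 A = ⊥) : In A = A := by rw [In, c, sup_bot_eq]

theorem cy_of_i2 (h : I2 A ⊤) : Cy A :=
  ⟨fun _ _ _ => commutator_le.2 fun a _ b _ => mem_sup_left (by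
    by_cases m : b ∈ A
    · exact comm_mem (h.norm le_top trivial) m
    by_cases n : a ∈ A
    · exact comm_mem' (h.norm le_top trivial) n
    rw [commutatorElement_def, mul_assoc, ← mul_inv_rev]
    exact mul_mem (h a trivial b trivial n m) (inv_mem (h b trivial a trivial m n))),
  fun _ _ _ a _ b _ p q _ _ => mem_sup_left (h a trivial b trivial (fun e => p (mem_sup_left e))
    fun e => q (mem_sup_left e))⟩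

theorem ko_of_i2 (h : I2 A ⊤) : KO A U := ⟨cy_of_i2 h, fun _ _ _ _ _ => mem_sup_left (h.sq trivial)⟩

theorem ot_of_i2 (h : I2 A ⊤) (hp : p.Prime ∧ p ≠ 2) : Ot A p := fun _ _ e =>
  mem_sup_left (i2_odd h hp.1 hp.2 trivial e)

theorem Cn.cj (h : Cn A r) (g : G) : Cn (cj g A) (g * r * g⁻¹) :=
  let ⟨_, s, c⟩ := h; ⟨_, s.cj g, conj_cent c g⟩

theorem Cn.mul (h : Cn A r) (c : k ∈ 𝐂 A) : Cn A (k * r) :=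
  let ⟨U, s, d⟩ := h; ⟨U, s, mul_mem (cent_anti s.le c) d⟩

theorem X0_mono {f f' : Prop} (h : f → f') : X0 f A v ≤ X0 f' A v :=
  closure_mono fun _ m => ⟨m.1, m.2.imp_right (Or.imp_right fun q => ⟨h q.1, q.2⟩)⟩

theorem X0_le {f : Prop} : X0 f A v ≤ A ⊓ 𝐂₁ v := (closure_le _).2 fun _ m => ⟨m.1, by
  obtain ⟨-, ⟨s, a, rfl⟩ | ⟨n, rfl⟩ | q⟩ := m
  exacts [mul_mem a.2 a.2, mem_cent1.2 (Commute.self_pow _ n), q.2.1]⟩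

theorem X0_norm {f : Prop} (n : g ∈ 𝐍 A) (c : g ∈ 𝐂₁ v) : g ∈ 𝐍 (X0 f A v) :=
  mem_norm_of_cj_le (by
    rw [X0, cj, MonoidHom.map_closure, closure_le]
    rintro _ ⟨x, ⟨a, m⟩, rfl⟩
    have e := fun {y} (h : y ∈ 𝐂₁ v) => mul_mem (mul_mem c h) (inv_mem c)
    refine subset_closure ⟨conj_mem_of_norm n a, m.imp (fun ⟨s, b, q⟩ => ⟨_, ⟨conj_mem_of_norm n b.1, e b.2⟩, ?_⟩)
      (Or.imp (fun ⟨i, q⟩ => ⟨i, ?_⟩) fun q => ⟨q.1, e q.2.1, ?_⟩)⟩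
    · simp [q.2.2]
    · simp [q]
    · simpa [q] using conj_fix c)

theorem DC.mono {f f' c c' : Prop} {i : ℕ} (h : DC A f c p i r Q) (a : f → f') (b : c → c') : DC A f' c' p i r Q :=
  ⟨h.pr, h.rk, h.nm, h.le, h.pi, h.ne, h.nd, fun l x y z => ⟨(h.bg l x y z).1.trans
    (card_dvd_of_le (sup_le_sup_right (X0_mono b) _)), (h.bg l x y z).2⟩,
    let ⟨m, x, y, z, w, v⟩ := h.a
    ⟨m, x, y, z, w, v.imp (And.imp_left a) fun ⟨ρ, q, s, t⟩ => ⟨ρ, q, s, X0_mono b t⟩⟩⟩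

/-- twisting -/
def tw (φ : 𝐍 A →* H) (h : H) : 𝐍 A →* H := (MulAut.conj h).toMonoidHom.comp φ

theorem fa_tw (h : H) (g : G) : fa (tw φ h) g = h * fa φ g * h⁻¹ := by
  by_cases n : g ∈ 𝐍 A
  · rw [fa_eq n, fa_eq n]; rfl
  · simp [fa, n]

theorem ia_tw (h : H) (S : Subgroup G) : ia (tw φ h) S = cj h (ia φ S) := by
  ext x
  simp only [mem_ia, mem_cj, fa_tw]
  exact ⟨fun ⟨g, a, b, e⟩ => ⟨g, a, b, by rw [← e]; group⟩, fun ⟨g, a, b, e⟩ => ⟨g, a, b, by rw [e]; group⟩⟩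

/-- transport -/
def cjh (φ : 𝐍 A →* H) (n : G) : 𝐍 (cj n A) →* H :=
  φ.comp (((MulAut.conj n⁻¹).toMonoidHom.comp (Subgroup.subtype _)).codRestrict _ fun x => by
    simpa using mem_cj.1 ((cj_norm n A).ge x.2))

theorem fa_cjh (n g : G) : fa (cjh φ n) (n * g * n⁻¹) = fa φ g := by
  by_cases h : g ∈ 𝐍 A
  · rw [fa_eq h, fa_eq (conj_norm h n)]
    exact congrArg φ (Subtype.ext (by simp [mul_assoc]))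
  · rw [fa, fa, dif_neg h, dif_neg (by rwa [← cj_norm, conj_mem_cj])]

theorem ia_cjh (n : G) (S : Subgroup G) : ia (cjh φ n) (cj n S) = ia φ S := by
  ext x
  simp only [mem_ia]
  refine ⟨fun ⟨g, a, b, e⟩ => ⟨_, mem_cj.1 a, mem_cj.1 (cj_norm n A ▸ b), ?_⟩,
    fun ⟨g, a, b, e⟩ => ⟨_, conj_mem_cj.2 a, conj_norm b n, by rw [fa_cjh, e]⟩⟩
  rw [← e, ← fa_cjh n]; congr 1; group

theorem ia_sup (a : S ≤ 𝐍 A) (b : T ≤ 𝐍 A) : ia φ (S ⊔ T) = ia φ S ⊔ ia φ T := by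
  rw [ia, subgroupOf_sup a b, Subgroup.map_sup]; rfl

theorem ia_comm (a : S ≤ 𝐍 A) (b : T ≤ 𝐍 A) : ia φ ⁅S, T⁆ = ⁅ia φ S, ia φ T⁆ := by
  rw [ia, subgroupOf_comm a b, map_commutator]; rfl

theorem ia_pi (k : PiGrp {2} S) : PiGrp {2} (ia φ S) := piGrp_of_forall_elt fun _ m => by
  obtain ⟨g, a, b, rfl⟩ := mem_ia.1 m; exact fa_pi b (k.elt a)

theorem ia_syl (s : Syl p S T) (l : T ≤ 𝐍 A) : Syl p (ia φ S) (ia φ T) := (hall_subgroupOf s l).map φ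

theorem ia_cj (n : g ∈ 𝐍 A) : ia φ (cj g S) = cj (fa φ g) (ia φ S) := by
  ext x
  rw [mem_cj, mem_ia, mem_ia]
  refine ⟨fun ⟨y, a, b, e⟩ => ⟨_, mem_cj.1 a, mul_mem (mul_mem (inv_mem n) b) n, ?_⟩,
    fun ⟨y, a, b, e⟩ => ⟨_, conj_mem_cj.2 a, mul_mem (mul_mem n b) (inv_mem n), ?_⟩⟩
  · rw [fa_mul (mul_mem (inv_mem n) b) n, fa_mul (inv_mem n) b, fa_inv n, e]
  · rw [fa_conj n b, e]; group

theorem ia_i2 (i : I2 (𝐂₁ y) U) (n : y ∈ 𝐍 A) : I2 (𝐂₁ (fa φ y)) (ia φ U) := fun _ hx _ hy nx ny => by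
  obtain ⟨x, u, a, rfl⟩ := mem_ia.1 hx
  obtain ⟨z, w, m, rfl⟩ := mem_ia.1 hy
  exact fa_mul (φ := φ) a m ▸ fa_c1 (mul_mem a m) n (i x u z w (fun q => nx (fa_c1 a n q)) fun q => ny (fa_c1 m n q))

/-- all points have central quotient `S` -/
def Pt (P : Subgroup G → Prop) (S : Type*) [Group S] : Prop :=
  ∀ A, P A → ⁅A, A⁆ = A ∧ PiGrp {2} (𝐙 A) ∧ Nonempty (A ⧸ center A ≃* S)

/-- `Y ⊴ H` is a model of `Inn S ⊴ Aut S` -/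
structure Mo (S : Type*) [Group S] (Y : Subgroup H) : Prop where
  nor : Y.Normal
  c : 𝐂 Y = ⊥
  o : Nat.card H = Nat.card S * Nat.card (Out S)
  e : Nonempty (S ≃* Y)

/-- the target for simple components -/
def G1 (S : Type*) [Group S] : Prop :=
  ∃ (H : Type) (_ : Group H) (_ : Finite H) (Y U : Subgroup H), Mo S Y ∧ Z1 Y U

/-- the target for double covers -/
def G2 (S : Type*) [Group S] : Prop :=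
  ∃ (H : Type) (_ : Group H) (_ : Finite H) (Y : Subgroup H), Mo S Y ∧ Z2 Y

section
variable {S S' : Type*} [Group S] [Group S']

theorem Mo.md (h : Mo S Y) (k : Pt P S) : Md P Y := fun A a =>
  have := h.nor
  let ⟨e⟩ := h.e
  let ⟨u, v, ⟨f⟩⟩ := k A a
  exists_act h.c (by rw [← Nat.card_congr e.toEquiv, ← Bt.card_out_congr e, h.o]) u v (f.trans e)

theorem Mo.congr (h : Mo S Y) (e : S' ≃* S) : Mo S' Y :=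
  ⟨h.nor, h.c, by rw [h.o, Nat.card_congr e.toEquiv, Bt.card_out_congr e], h.e.map e.trans⟩

theorem G1.congr (h : G1 S) (e : S' ≃* S) : G1 S' :=
  let ⟨H, i, f, Y, U, a, b⟩ := h; ⟨H, i, f, Y, U, a.congr e, b⟩

theorem G2.congr (h : G2 S) (e : S' ≃* S) : G2 S' :=
  let ⟨H, i, f, Y, a, b⟩ := h; ⟨H, i, f, Y, a.congr e, b⟩

theorem mo_top (z : center H = ⊥) (o : Nat.card (Out H) = 1) : Mo H (⊤ : Subgroup H) :=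
  ⟨inferInstance, eq_bot_iff.2 fun _ m => z.le (mem_center_iff.2 fun g => mem_cent.1 m g trivial), by simp [o], ⟨topEquiv.symm⟩⟩

theorem mo_inn (z : center H = ⊥) : Mo H (Inn H) :=
  ⟨innNormal H, eq_bot_iff.2 fun y m => MulEquiv.ext fun x => (conj_c1 z).1 (c1_of m ⟨x, rfl⟩), by
    rw [card_eq_card_quotient_mul_card_subgroup (Inn H), mul_comm,
      Nat.card_congr (MonoidHom.ofInjective (conj_inj' z)).toEquiv], ⟨MonoidHom.ofInjective (conj_inj' z)⟩⟩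

theorem mo_ext [Finite S] {ι : S →* H} (j : Function.Injective ι) (i : I2 ι.range ⊤) (z : center S = ⊥)
    (o : Nat.card (Out S) = 2) (c : Nat.card H = Nat.card S * 2) (cl : ∀ t : H, Iv t → ♯(𝐂₁ t) < Nat.card S) :
    Mo S ι.range :=
  ⟨normalIn_top.1 ⟨le_top, i.norm le_top⟩, eq_bot_iff.2 fun x m => by_contra fun r => (cl x ⟨r, by
    obtain ⟨y, e⟩ := i.sq (mem_top x)
    rw [← e, show y = 1 from z.le (mem_center_iff.2 fun g => j (by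
      rw [map_mul, map_mul, e]; exact mem_cent.1 (mul_mem m m) _ ⟨g, rfl⟩)), map_one]⟩).not_ge
      (Nat.card_congr (MonoidHom.ofInjective j).toEquiv ▸ card_le_of_le (le_cent1_iff.2 m)), o ▸ c,
    ⟨MonoidHom.ofInjective j⟩⟩

end
end CF.Q17

namespace CF.Q16.Act
open Subgroup Cfsg CF.BG CF.Sig CF.CT CF.CmpT CF.PG CF.Bender CF.SM CF.Q17
open scoped commutatorElement
variable {G H : Type*} [Group G] [Group H] [Finite G] [Finite H] {A S U : Subgroup G} {φ : 𝐍 A →* H}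
  {Y U₀ : Subgroup H} {g j k x y : G} {p : ℕ} (h : Act A φ Y)
include h

theorem tw [n : Y.Normal] (c : H) : Act A (Q17.tw φ c) Y :=
  ⟨h.pf, h.z2, fun g => (map_eq_one_iff _ (MulAut.conj c).injective).trans (h.ker g), by
    rw [ia_tw, h.im, cj_of_norm ((normalIn_top.2 n).norm trivial)]⟩

theorem cj (n : G) : Act (BG.cj n A) (cjh φ n) Y :=
  ⟨by rw [← cj_comm, h.pf], by rw [← cj_cent, ← cj_inf]; exact h.z2.cj n, fun g => (h.ker _).trans (by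
    simp [← cj_cent, mem_cj]), by rw [ia_cjh, h.im]⟩

theorem eq (a : x ∈ 𝐍 A) (b : y ∈ 𝐍 A) : fa φ x = fa φ y ↔ x⁻¹ * y ∈ 𝐂 A := by
  rw [← h.one (mul_mem (inv_mem a) b), fa_mul (inv_mem a) b, fa_inv a, inv_mul_eq_one]

theorem mulc (a : x ∈ 𝐍 A) (c : k ∈ 𝐂 A) : fa φ (x * k) = fa φ x := by
  rw [fa_mul a (cent_le_norm A c), (h.one (cent_le_norm A c)).2 c, mul_one]

theorem memS (n : g ∈ 𝐍 A) (m : fa φ g ∈ ia φ S) : g ∈ S ⊔ 𝐂 A := by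
  obtain ⟨s, a, b, e⟩ := mem_ia.1 m
  simpa using mul_mem_sup a ((h.eq b n).1 e)

theorem inn' (n : g ∈ 𝐍 A) (m : fa φ g ∈ Y) : g ∈ In A := h.memS n (h.im.symm ▸ m)

theorem mem' (m : g ∈ In A) : fa φ g ∈ Y := by
  obtain ⟨l, a, k, c, rfl⟩ := in_dec m
  exact h.mulc (nk a) c ▸ h.mem a

theorem inn (n : g ∈ 𝐍 A) : fa φ g ∈ In Y ↔ g ∈ In A := ⟨fun m => by
  obtain ⟨_, a, b, c, q⟩ := in_dec m
  obtain ⟨a, ha, rfl⟩ := h.ex a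
  have := (h.cent (mul_mem (inv_mem (nk ha)) n)).1 (by
    rwa [fa_mul (inv_mem (nk ha)) n, fa_inv (nk ha), ← q, inv_mul_cancel_left])
  simpa using mul_mem_sup ha this, fun m => mem_sup_left (h.mem' m)⟩

theorem ia_le (l : S ≤ 𝐍 A) : ia φ S ≤ 𝐍 Y := fun _ m => by
  obtain ⟨g, a, -, rfl⟩ := mem_ia.1 m; exact h.norm (l a)

theorem cy (c : Cy Y) : Cy A where
  ab S l k := fun x m => (h.inn (l (der_le S m))).1 (c.ab _ (h.ia_le l) (ia_pi k)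
    (ia_comm (φ := φ) l l ▸ fa_mem m (l (der_le S m))))
  i2 S l k a ha b hb p q u v := (h.inn (l (mul_mem ha hb))).1 (fa_mul (φ := φ) (l ha) (l hb) ▸
    c.i2 _ (h.ia_le l) (ia_pi k) _ (fa_mem ha (l ha)) _ (fa_mem hb (l hb)) (mt (h.inn (l ha)).1 p)
      (mt (h.inn (l hb)).1 q) (fa_mul (φ := φ) (l ha) (l ha) ▸ (h.inn (l (mul_mem ha ha))).2 u)
      (fa_mul (φ := φ) (l hb) (l hb) ▸ (h.inn (l (mul_mem hb hb))).2 v))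

theorem ot (o : Ot Y p) : Ot A p := fun x n e =>
  (h.inn n).1 (o _ (h.norm n) (by rw [← fa_pow n, e, fa_one]))

theorem syl_lift (s : Syl 2 U₀ Y) : ∃ U, Syl 2 U A ∧ ia φ U = U₀ := by
  obtain ⟨U, t⟩ := exists_syl 2 A
  obtain ⟨_, m, e⟩ := (h.syl t).syl_conj s
  obtain ⟨g, a, rfl⟩ := h.ex m
  exact ⟨_, t.cj_of_mem a, by rw [ia_cj (nk a), e]⟩

theorem syl_tw [Y.Normal] (s : Syl 2 U₀ Y) (t : Syl 2 U A) : ∃ ψ, Act A ψ Y ∧ ia ψ U = U₀ :=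
  let ⟨g, _, e⟩ := (h.syl t).syl_conj s; ⟨_, h.tw g, by rw [ia_tw, e]⟩

theorem split (m : g ∈ In A) (k : PiElt {2} g) :
    ∃ l ∈ A, ∃ c ∈ 𝐂 A, l * c = g ∧ PiElt {2} l ∧ PiElt {2} c := by
  obtain ⟨l, a, c, b, rfl⟩ := in_dec m
  have q := h.pi a (h.mulc (nk a) b).symm (fa_pi (in_le m) k)
  exact ⟨l, a, c, b, rfl, q, by
    simpa using (pi_two q k (by rw [mul_assoc, mem_cent.1 b l a])).elt
      (mul_mem (inv_mem (mem_sup_left (mem_zpowers l))) (mem_sup_right (mem_zpowers (l * c))))⟩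

variable (z : 𝐙 A = ⊥)
include z

theorem inj (a : x ∈ A) (b : y ∈ A) (e : fa φ x = fa φ y) : x = y :=
  inv_mul_eq_one.1 (z.le ⟨A.mul_mem (inv_mem a) b, (h.eq (nk a) (nk b)).1 e⟩)

theorem c1 (n : g ∈ 𝐍 A) (m : x ∈ A) (c : fa φ x ∈ 𝐂₁ (fa φ g)) : x ∈ 𝐂₁ g :=
  c1_iff.1 (z.le ⟨comm_mem' n m, h.comm (nk m) n c⟩)

theorem cU (l : U ≤ A) (n : g ∈ 𝐍 A) (c : fa φ g ∈ 𝐂 (ia φ U)) : g ∈ 𝐂 U :=
  le_cent1_iff.1 fun _ m => h.c1 z n (l m) (c1_of c (fa_mem m (nk (l m))))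

theorem memU (l : U ≤ A) (m : x ∈ A) (c : fa φ x ∈ ia φ U) : x ∈ U := by
  obtain ⟨u, a, -, e⟩ := mem_ia.1 c
  exact h.inj z (l a) m e ▸ a

theorem nU (l : U ≤ A) (n : g ∈ 𝐍 A) (c : fa φ g ∈ 𝐍 (ia φ U)) : g ∈ 𝐍 U :=
  mem_norm_of_cj_le fun _ m => h.memU z l (cj_le_of_norm n l m)
    ((ia_cj (φ := φ) n).trans (cj_of_norm c) ▸ fa_mem m (nk (cj_le_of_norm n l m)))

theorem card (l : U ≤ A) : ♯(ia φ U) = ♯U := by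
  rw [← relIndex_bot_left, rel_ia (l.trans (le_norm_self A)), ← relIndex_bot_left]
  exact rel_congr (le_antisymm (fun _ a => ⟨z.le ⟨l a.2, (h.one (nk (l a.2))).1 (mem_pa.1 a.1).2⟩, a.2⟩)
    (inf_le_inf_right _ bot_le))

theorem cinf (l : U ≤ A) (n : g ∈ 𝐍 A) : ia φ (U ⊓ 𝐂₁ g) = ia φ U ⊓ 𝐂₁ (fa φ g) := by
  rw [← ia_inf]
  congr 1
  exact le_antisymm (fun _ m => ⟨m.1, mem_pa.2 ⟨nk (l m.1), fa_c1 (nk (l m.1)) n m.2⟩⟩)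
    fun _ m => ⟨m.1, h.c1 z n (l m.1) (mem_pa.1 m.2).2⟩

theorem zinf (l : U ≤ A) : ia φ (U ⊓ 𝐂 U) = ia φ U ⊓ 𝐂 (ia φ U) := by
  rw [← ia_inf]
  congr 1
  exact le_antisymm (fun _ m => ⟨m.1, mem_pa.2 ⟨nk (l m.1), fa_cent (nk (l m.1)) m.2⟩⟩)
    fun _ m => ⟨m.1, h.cU z l (nk (l m.1)) (mem_pa.1 m.2).2⟩

theorem cn (n : g ∈ 𝐍 A) (c : Cn Y (fa φ g)) : Cn A g := by
  obtain ⟨_, s, d⟩ := c
  obtain ⟨U, t, rfl⟩ := h.syl_lift s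
  exact ⟨U, t, h.cU z t.le n d⟩

theorem cjm (n : j ∈ 𝐍 A) (m : x ∈ A) (c : ∃ g ∈ Y, g * fa φ j * g⁻¹ = fa φ j * fa φ x) :
    ∃ g ∈ A, g * j * g⁻¹ = j * x := by
  obtain ⟨_, a, e⟩ := c
  obtain ⟨g, b, rfl⟩ := h.ex a
  have q : j⁻¹ * g * j * g⁻¹ ∈ A := mul_mem (conj_mem_of_norm' n b) (inv_mem b)
  refine ⟨g, b, ?_⟩
  rw [← h.inj z q m (by
    rw [mul_assoc, mul_assoc, ← mul_assoc g, fa_mul (inv_mem n) (mul_mem (mul_mem (nk b) n) (inv_mem (nk b))),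
      fa_conj (nk b) n, e, fa_inv n, inv_mul_cancel_left])]
  group

end CF.Q16.Act
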