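/-
Quasithin groups of even type: checkers for the properties of the small components.
-/
import Cfsg.Agent.Known.Q17.Ba
import Cfsg.Agent.Bf.E
set_option autoImplicit false
set_option linter.unusedSectionVars false

namespace CF.Bf
open CF.Comp

/-- a chain for a subgroup -/
noncomputable def subOK (n : Nat) (c c' : List Lv) : Bool := lall (fun v => can n v && mem n c v) (gn c') && chk n c'
noncomputable def inOK (n : Nat) (c : List Lv) (S : List Nat) : Bool := lall (fun v => can n v && mem n c v) S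
noncomputable def nrmOK (n : Nat) (c c' : List Lv) : Bool := lall (fun g => lall (fun v => mem n c (cjc n g v)) (gn c)) (gn c')
noncomputable def sylOK (n : Nat) (c c' : List Lv) (k : Nat) : Bool :=
  lall (mem n c) (gn c') && Nat.beq (ord n c') (2 ^ k) && Nat.beq (ord n c / 2 ^ k % 2) 1
noncomputable def i2OK (n : Nat) (c c' : List Lv) : Bool := lall (mem n c) (gn c') && Nat.ble (ord n c) (2 * ord n c')
noncomputable def infOK (n : Nat) (c d c' : List Lv) : Bool := subOK n c c' && lall (mem n d) (gn c') &&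
  (Nat.ble (ord n c) (ord n c') || Nat.ble (ord n c) (2 * ord n c') && lany (fun v => nt (mem n d v)) (gn c))
noncomputable def epOK (n : Nat) (c c' : List Lv) (p : Nat) : Bool := subOK n c c' &&
  lall (fun v => isI n (powc n v p)) (gn c') && nrmOK n c' c && nt (Nat.beq (ord n c / ord n c' % p) 0)
noncomputable def rkOK (n : Nat) (c : List Lv) (p v w : Nat) : Bool := inOK n c [v, w] && isI n (powc n v p) &&
  isI n (powc n w p) && nt (isI n v) && comc n w v && allFrom (fun i => nt (Nat.beq (powc n v i) w)) 0 p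
noncomputable def clsOK (n : Nat) (c : List Lv) (S R xs ks : List Nat) : Bool := trOK n S R xs ks &&
  all n c fun v => im (sqI n v) (isI n v || isIn v xs)
noncomputable def prc (n : Nat) (w : List Nat) : Nat :=
  List.rec (motive := fun _ => Nat) (idc n) (fun v _ r => mulc n v r) w
noncomputable def x0b (n : Nat) (c : List Lv) (f : Bool) (v : Nat) (W : List Nat) (x : Nat) : Bool := mem n c x &&
  (f && comc n x v && sqI n x || lany (fun e => Nat.beq (powc n x e) v) [1, 2, 3, 4, 5, 6, 8] ||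
    lany (fun s => can n s && mem n c s && comc n s v && Nat.beq x (mulc n s s)) W)
noncomputable def a2OK (n : Nat) (c d : List Lv) (u : Nat) : Bool :=
  all n c fun y => im (sqI n y && lall (comc n y) (gn d)) (isI n y || Nat.beq y u)
noncomputable def t2OK (n : Nat) (cY cZ cD : List Lv) (p r : Nat) (W : List (List Nat)) : Bool :=
  lall (inOK n cY) W && all n cZ fun s => im (lall (comc n s) (gn cD)) (nt (Nat.beq (mulc n s s) r) &&
    im (sqI n s) (isI n s || Nat.beq s r || lany (fun w => lall (fun v => comc n v r || comc n v s) w &&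
      force (prc n w) fun x => isI n (powc n x p) && Nat.beq (cjc n x r) s && Nat.beq (cjc n x s) (mulc n r s)) W))
/-- `cC`, `cD`, `cQ`: centralizer of `r`, its subgroup `D`, a Sylow subgroup of `D` -/
noncomputable def dcOK (n : Nat) (cY cC cD cZ : List Lv) (fs fc : Bool) (k r l m a ρ : Nat) (W X : List Nat) : Bool :=
  nt (mem n cD r) && nt (Nat.beq (ord n cC % 2 ^ k) 0) && Nat.beq (ord n cZ % 2 ^ k) 0 && subOK n cY cZ &&
  lall (fun x => x0b n cY fc l W x || mem n cD x && comc n x l) (gn cZ) && inOK n cD [l, m, ρ] && nt (isI n l) &&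
  sqI n l && inOK n cY (a :: X) && Nat.beq (cjc n a r) (mulc n r m) && (fs && nt (isI n m) ||
    nt (isI n (mulc n m (cjc n ρ m))) && lall (x0b n cY fc (cjc n ρ m) W) X && Nat.beq (prc n X) a)
noncomputable def ccOK (n : Nat) (cY cZ cD cU : List Lv) (u x : Nat) (S xs ks : List Nat) : Bool :=
  nt (isI n u) && sqI n u && lall (comc n u) (gn cU) && mem n cD u && inOK n cY (x :: S) && trOK n S [u] xs ks &&
  all n cU (fun y => force (powc n y 2) fun y => im (sqI n y) (isI n y || isIn y xs)) &&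
  Nat.beq (mulc n (powc n x 2) (powc n x 2)) u && mem n cD (powc n x 2) &&
  all n cZ (fun y => im (lall (comc n y) (gn cD)) (isI n y || Nat.beq y u)) && (mem n cD x ||
    all n cZ fun y => force (powc n y 2) fun z => im (Nat.beq (mulc n z z) u) (mem n cY y))

namespace Cd
open Subgroup Cfsg CF.BG CF.Sig CF.CT CF.CmpT CF.PG CF.Bender CF.SM CF.Q16 CF.Q17
open CF.ZD (iv_pi)
variable {n : ℕ} {H : Type*} [Group H] [Finite H] {C : Cd H n} {K L T U Y Z D Q : Subgroup H} {c c' cY cZ cC cD cQ : List Lv}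
  {S R xs ks W X : List ℕ} {r u x y g : H} {p k v w : ℕ}

theorem In.prc (a : C.In K S) : ∃ x ∈ K, C.c x = prc n S := by
  induction S with
  | nil => exact ⟨1, one_mem _, C.one.symm⟩
  | cons v S ih =>
    obtain ⟨x, p, e⟩ := ih fun w m => a w (.tail _ m)
    obtain ⟨y, q, rfl⟩ := a v (.head _)
    exact ⟨y * x, mul_mem q p, by rw [← C.mul, e]; rfl⟩

theorem In.of (a : C.In K S) (b : ∀ x ∈ K, C.c x ∈ S → x ∈ L) : C.In L S := fun v m =>
  let ⟨x, p, e⟩ := a v m; ⟨x, b x p (e ▸ m), e⟩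

theorem In.ex₁ (a : C.In K [v]) : ∃ x ∈ K, C.c x = v := a v (.head _)

theorem In.ex₂ (a : C.In K [v, w]) : ∃ x ∈ K, ∃ y ∈ K, C.c x = v ∧ C.c y = w :=
  let ⟨x, p, e⟩ := a v (by simp); let ⟨y, q, f⟩ := a w (by simp); ⟨x, p, y, q, e, f⟩

theorem eq₁ (h : C.c x ∈ [C.c y]) : x = y := C.eq.1 (List.mem_singleton.1 h)

theorem eq₂ (e : C.c y = v) (h : C.c x ∈ [v]) : x = y := eq₁ (e ▸ h)

theorem syl_red (s : Syl 2 T K) {Φ : H → Prop} (i : ∀ x, ∀ g ∈ K, Φ (g * x * g⁻¹) → Φ x) (b : ∀ x ∈ T, Φ x) (m : x ∈ K)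
    (k : PiElt {2} x) : Φ x :=
  let ⟨g, p, l⟩ := s.syl_cj_le (zpowers_le.2 m) k.zpowers; i x g p (b _ (l (conj_mem_cj.2 (mem_zpowers x))))

theorem X0_cj {f : Prop} (a : g ∈ 𝐍 Y) : BG.cj g (X0 f Y x) ≤ X0 f Y (g * x * g⁻¹) := by
  rw [X0, BG.cj, MonoidHom.map_closure, closure_le]
  rintro _ ⟨y, ⟨b, m⟩, rfl⟩
  have e := fun {y} (h : y ∈ 𝐂₁ x) => (cj_cent1 g x).le (conj_mem_cj.2 h)
  refine subset_closure ⟨conj_mem_of_norm a b, m.imp (fun ⟨s, b, q⟩ => ⟨_, ⟨conj_mem_of_norm a b.1, e b.2⟩, ?_⟩)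
    (Or.imp (fun ⟨i, q⟩ => ⟨i, ?_⟩) fun q => ⟨q.1, e q.2.1, ?_⟩)⟩
  · simp [q.2.2]
  · simp [q]
  · simp [← q]

theorem Ch.top (h : C.Ch c (⊤ ⊓ K)) : C.Ch c K := top_inf_eq K ▸ h

theorem cn_of [N : Y.Normal] (s : Syl 2 U Y) (c : g * r * g⁻¹ ∈ 𝐂 U) : Cn Y r := by
  have := (show Cn Y _ from ⟨U, s, c⟩).cj g⁻¹
  rw [cj_of_norm ((normalIn_top.2 N).norm trivial)] at this
  simpa [mul_assoc] using this

namespace Ch
section
variable (h : C.Ch c K)
include h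

theorem nor (t : C.Ch c' ⊤) (q : nrmOK n c c' = true) : K.Normal := normalIn_top.1 ⟨le_top, h.nrm t q⟩

theorem syl (h' : C.Ch c' L) (q : sylOK n c c' k = true) : Syl 2 L K := by
  simp only [sylOK, C.bf, beq_iff] at q
  have l := h'.le' h q.1.1
  have e := h'.card.trans q.1.2
  refine syl_mk Nat.prime_two l (piGrp_of_card Nat.prime_two e) ?_
  rw [← h.card, ← card_mul_relIndex l, e, Nat.mul_div_cancel_left _ (by positivity)] at q
  omega

theorem i2 (h' : C.Ch c' L) (q : i2OK n c c' = true) : I2 L K := by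
  simp only [i2OK, C.bf, ble_iff] at q
  exact i2_of_card (h'.le' h q.1) (h.card ▸ h'.card ▸ q.2)

theorem inf2 (hY : C.Ch cY Y) (q : infOK n c cY c' = true) : C.Ch c' (Y ⊓ K) := by
  simp only [infOK, C.bf, ble_iff, lany_iff] at q
  obtain ⟨L, l, k⟩ := h.sub q.1.1
  have l' := k.le' hY q.1.2
  refine le_antisymm (le_inf l' l) (fun x m => by_contra fun o => ?_) ▸ k
  rw [← h.card, ← k.card] at q
  rcases q.2 with e | ⟨e, v, a, b⟩
  · exact o (eq_of_le_of_card_le l e ▸ m.2)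
  · obtain ⟨z, p, rfl⟩ := h.rz v a
    exact b (hY.mem.2 ((Y.mul_mem_cancel_left m.1).1 (l' (i2_of_card l e x m.2 z p o fun t => b (hY.mem.2 (l' t))))))

theorem ep (hp : p.Prime) (q : epOK n c c' p = true) : C.Ch c' (Ep p K) := by
  simp only [epOK, C.bf, beq_iff] at q
  obtain ⟨⟨⟨a, b⟩, d⟩, e⟩ := q
  obtain ⟨L, l, k⟩ := h.sub a
  refine le_antisymm (k.le fun x m => mem_Ep (l (k.eq ▸ C.mem_cl m)) (C.isI.1 (C.pow p ▸ lall_iff.1 b _ m)))
    (Ep_le.2 fun x m t => ?_) ▸ k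
  rw [← h.card, ← k.card, ← card_mul_relIndex l, Nat.mul_div_cancel_left _ Nat.card_pos] at e
  exact (piElt_of_pow_eq_one hp t).mem_of_relIndex m (k.nrm h d)
    ((piNat_compl_single hp).2 fun s => e (Nat.mod_eq_zero_of_dvd s))

theorem ot (t : C.Ch c' ⊤) [N : K.Normal] (hp : p.Prime) (q : nt (Nat.beq (ord n c' / ord n c % p) 0) = true) :
    Ot K p := fun x _ e => mem_sup_left ((piElt_of_pow_eq_one hp e).mem_of_relIndex (mem_top x) (normalIn_top.2 N).norm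
      ((piNat_compl_single hp).2 fun s => by
        rw [nt_iff, beq_iff, ← h.card, ← t.card, ← card_mul_relIndex (le_top (a := K)),
          Nat.mul_div_cancel_left _ Nat.card_pos] at q
        exact q (Nat.mod_eq_zero_of_dvd s)))

theorem rk (hp : p.Prime) (q : rkOK n c p v w = true) : 2 ≤ pRank p K := by
  simp only [rkOK, C.bf] at q
  obtain ⟨x, a, y, b, rfl, rfl⟩ := (h.rlz q.1.1.1.1.1).ex₂
  simp only [C.bf, allFrom_zero] at q
  refine (two_elem hp a b q.1.1.2 q.1.1.1.1.2 q.1.1.1.2 q.1.2 fun m => ?_).le_pRank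
  obtain ⟨i, e⟩ := mem_powers_iff_mem_zpowers.2 m
  exact q.2 _ (Nat.mod_lt i hp.pos) ((pow_eq_pow_mod i q.1.1.1.1.2).symm.trans e)

theorem cls (s : Syl 2 K Y) (a : C.In L S) (l : Y ≤ L) (q : clsOK n c S R xs ks = true) (m : r ∈ Y) (i : Iv r) :
    ∃ g ∈ L, C.c (g * r * g⁻¹) ∈ R := by
  simp only [clsOK, C.bf, h.bf, isIn_iff] at q
  refine syl_red s (Φ := fun r => Iv r → ∃ g ∈ L, C.c (g * r * g⁻¹) ∈ R) (fun x g m t i => ?_)
    (fun x m i => a.tr q.1 ((q.2 x m i.sq).resolve_left i.ne)) m (piGrp_zpowers.1 (iv_pi i)) i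
  obtain ⟨y, p, e⟩ := t (i.conj g)
  exact ⟨y * g, mul_mem p (l m), by rwa [show y * g * x * (y * g)⁻¹ = y * (g * x * g⁻¹) * y⁻¹ by group]⟩

theorem x0 {b : Bool} {f : Prop} (e : b = true → f) (q : x0b n c b (C.c u) W (C.c x) = true) : x ∈ X0 f K u := by
  simp only [x0b, C.bf, h.bf, lany_iff] at q
  refine subset_closure ⟨q.1, ?_⟩
  rcases q.2 with (q | ⟨i, -, q⟩) | ⟨v, -, ⟨⟨a, b⟩, d⟩, q⟩
  · exact .inr (.inr ⟨e q.1.1, q.1.2, q.2⟩)
  · exact .inr (.inl ⟨i, q⟩)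
  · obtain ⟨s, m, rfl⟩ := h.rl v a b
    simp only [C.bf] at d q
    exact .inl ⟨s, ⟨m, d⟩, q⟩

theorem a2' (h' : C.Ch c' U) (l : 𝐂 U ≤ K) (e : C.c u = v) (q : a2OK n c c' v = true) (i : Iv y) (m : y ∈ 𝐂 U) : y = u := by
  simp only [a2OK, ← e, C.bf, h.bf, h'.bf] at q
  exact (q y (l m) ⟨i.sq, m⟩).resolve_left i.ne

theorem a2 (h' : C.Ch c' U) (l : 𝐂 U ≤ K) (e : C.c u = v) (q : a2OK n c c' v = true) : A2 Y U :=
  fun _ _ _ _ i j a b _ _ => by rw [h.a2' h' l e q i a, ← h.a2' h' l e q j b, j.sq]; exact one_mem _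

theorem sep' (q : (inOK n c S && sepF n S) = true) : 𝐂 K = ⊥ :=
  have := Bool.and_eq_true_iff.1 q; sep (h.rlz this.1) this.2

theorem mo {G : Type*} [Group G] [Finite G] {m : ℕ} {C' : Cd G m} (t : C.Ch c' ⊤) {d : List Lv} (b : C'.Ch d ⊤)
    (o : Nat.card (Out G) = k) (q : (Nat.ble m n && leq (lmap (fun v => pk (dg v) m) (gn c)) (gn d) &&
      Nat.beq (ord n c) (ord m d) && Nat.beq (ord n c') (ord m d * k) && nrmOK n c c') = true)
    (q' : (inOK n c S && sepF n S) = true) : Mo G K := by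
  simp only [C.bf, beq_iff, ble_iff, leq_iff] at q
  obtain ⟨⟨⟨⟨a, e⟩, f⟩, i⟩, j⟩ := q
  rw [← b.card, card_top] at f i
  exact ⟨h.nor t j, h.sep' q', by rw [← card_top, t.card, i, o],
    h.eq ▸ iso C' a (h.rz.mono le_top) b.rz e b.eq.symm (h.eq ▸ h.card.trans f)⟩

end

variable (hY : C.Ch cY Y) (e : C.c r = v) (hp : p.Prime ∧ p ≠ 2) (rk : 2 ≤ pRank p Y)
  (hD : C.Ch cD (Ep p (Y ⊓ 𝐂₁ r)))
include hY e hp rk hD

theorem t2 (hZ : C.Ch cZ (𝐂₁ r)) (i : I2 Y ⊤) {V : List (List ℕ)} (q : t2OK n cY cZ cD p v V = true) : T2 Y p r := by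
  simp only [t2OK, ← e, C.bf, hZ.bf, hD.bf, lany_iff, lall_iff, force_eq] at q
  refine ⟨hp, i, rk, fun s a b d f _ => ?_, fun y _ b f => (q.2 y (f ▸ mem_cent1.2 (mul_assoc y y y).symm) b).1 f⟩
  obtain ⟨w, m, t, o⟩ := ((q.2 s b f).2 a.sq).resolve_left (not_or.2 ⟨a.ne, d⟩)
  obtain ⟨x, j, l⟩ := ((hY.rlz (q.1 w m)).of (L := Y ⊓ 𝐂₁ r ⊔ Y ⊓ 𝐂₁ s) fun x z m => by
    have := t _ m
    simp only [C.bf] at this
    exact this.elim (fun q => mem_sup_left ⟨z, q⟩) fun q => mem_sup_right ⟨z, q⟩).prc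
  simp only [← l, C.bf] at o
  exact ⟨x, j, o.1.1, o.1.2, o.2⟩

theorem dc (hC : C.Ch cC (Y ⊓ 𝐂₁ r)) (hQ : C.Ch cQ Q) {i l m a ρ : ℕ} (s : sylOK n cD cQ i = true)
    (t : (inOK n cC S && clsOK n cQ S [l] xs ks) = true) {bs bc : Bool} {fs fc : Prop} (es : bs = true → fs)
    (ec : bc = true → fc) (q : dcOK n cY cC cD cZ bs bc k v l m a ρ W X = true) : DC Y fs fc p k r Q := by
  simp only [dcOK, C.bf, beq_iff, lall_iff] at q t
  obtain ⟨⟨⟨⟨⟨⟨⟨⟨⟨⟨q1, q2⟩, q3⟩, q4⟩, q5⟩, q6⟩, q7⟩, q8⟩, q9⟩, q10⟩, q11⟩ := q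
  obtain ⟨Z, -, hZ⟩ := hY.sub q4
  have i6 := hD.rlz q6
  have i9 := hY.rlz q9
  obtain ⟨l, ml, rfl⟩ := i6 l (by simp)
  obtain ⟨m, mm, rfl⟩ := i6 m (by simp)
  obtain ⟨ρ, mρ, rfl⟩ := i6 ρ (by simp)
  obtain ⟨a, ma, rfl⟩ := i9 a (.head _)
  simp only [← e, C.bf, C.eq, hD.bf] at q1 q7 q8 q10 q11
  have sy := hD.syl hQ s
  have cl : ∀ y ∈ Ep p (Y ⊓ 𝐂₁ r), Iv y → ∃ g ∈ Y ⊓ 𝐂₁ r, g * y * g⁻¹ = l := fun y a b =>
    (hQ.cls sy (hC.rlz t.1) Ep_le' t.2 a b).imp fun _ => And.imp_right eq₁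
  refine ⟨hp, rk, q1, sy.le, sy.pi, sy.ne_bot Nat.prime_two rfl ((Iv.mk q7 q8).orderOf ▸ orderOf_dvd_natCard _ ml),
    fun d => q2 (Nat.mod_eq_zero_of_dvd (hC.card ▸ d)), fun y b _ d => ?_, m, mm, a, ma, q10,
    q11.imp (And.imp_left es) fun o => ⟨ρ, mρ, o.1.1, ?_⟩⟩
  · obtain ⟨g, j, rfl⟩ := cl y b d
    refine ⟨(Nat.dvd_of_mod_eq_zero q3).trans ?_, fun z b d => ?_⟩
    · rw [← hZ.card, ← card_cj g⁻¹]
      refine card_dvd_of_le (cj_le_iff.2 (hZ.le fun x z => mem_cj.2 ?_))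
      have := q5 _ z
      simp only [C.bf, hD.bf] at this
      refine this.elim (fun o => mem_sup_left ?_) fun o => mem_sup_right ⟨?_, ?_⟩
      · simpa [mul_assoc] using X0_cj (le_norm_self Y (inv_mem j.1)) (conj_mem_cj.2 (hY.x0 ec o))
      · simpa using conj_mem_of_norm (norm_Ep (le_norm_self _ (inv_mem j))) o.1
      · simpa using mem_cj.1 ((cj_cent1 g y).ge o.2)
    · obtain ⟨x, o, f⟩ := cl z b d
      exact ⟨g⁻¹ * x, mul_mem (inv_mem j.1) o.1, by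
        rw [show g⁻¹ * x * z * (g⁻¹ * x)⁻¹ = g⁻¹ * (x * z * x⁻¹) * g by group, f]; group⟩
  · obtain ⟨x, j, f⟩ := (In.of (K := Y) (fun v z => i9 v (.tail _ z)) fun x _ z => hY.x0 ec (o.1.2 _ z)).prc
    exact C.eq.1 (f.trans o.2) ▸ j

theorem cc (hZ : C.Ch cZ (𝐂₁ r)) (hC : C.Ch cC (Y ⊓ 𝐂₁ r)) (hQ : C.Ch cQ U) (s : Syl 2 U Y) (o : Ot Y p)
    (i : i2OK n cC cD = true) (a : a2OK n cZ cQ v = true) (m : r ∈ U) (q : ccOK n cY cZ cD cQ v w S xs ks = true) :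
    CC Y U (zpowers r) p 2 r := by
  simp only [ccOK, C.bf] at q
  obtain ⟨⟨⟨⟨⟨⟨⟨⟨⟨⟨q1, q2⟩, q3⟩, q4⟩, q5⟩, q6⟩, q7⟩, q8⟩, q9⟩, q10⟩, q11⟩ := q
  have i5 := hY.rlz q5
  obtain ⟨x, mx, rfl⟩ := i5 w (.head _)
  simp only [← e, C.bf, hD.bf, hQ.bf, hZ.bf, hY.bf, force_eq, isIn_iff] at q1 q2 q3 q4 q6 q7 q8 q9 q10 q11
  have ir : Iv r := ⟨q1, q2⟩
  have z := fun y (b : y ∈ 𝐂 (Ep p (Y ⊓ 𝐂₁ r))) => q10 y (c1_of' b q4) b
  have pi : ∀ {y z : H}, y ^ 2 * y ^ 2 = z → z * z = 1 → PiElt {2} y := fun {y _} b d =>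
    pe_of_sq (pow_two y ▸ pe_of_sq (b ▸ pe_of_sq (d ▸ piElt_one _)))
  refine ⟨hp, rk, o, s, ir, q3, hC.i2 hD i, fun y b d => hZ.a2' hQ (fun _ t => c1_of' t m) e a b d ▸ mem_zpowers r,
    fun y _ b _ => (z y b).elim (· ▸ one_mem _) (· ▸ mem_zpowers r), fun y b d => ⟨1, one_mem _, ?_⟩,
    fun y b d => syl_red s (Φ := fun y => y ^ 2 * y ^ 2 = 1 → y ^ 2 ≠ 1 → ∃ g ∈ Y, g * y ^ 2 * g⁻¹ = r)
      (fun y g b t d f => ?_) (fun y b d f => ?_) b (pi d (mul_one 1)) d,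
    x, mx, q8, q9, q11.imp_right fun t => ⟨pi q8 q2, fun y b => t y ?_ b, fun y _ => z y⟩⟩
  · simpa using (z y (zpowers_le.2 (show r ∈ 𝐂 _ from le_cent1_iff.1 (Ep_le'.trans inf_le_right)) b)).resolve_left d
  · obtain ⟨w, j, l⟩ := t (by rw [conj_pow, conj_mul, d]; simp) (by rwa [conj_pow, Ne, conj_eq_one_iff])
    exact ⟨w * g, mul_mem j b, by rw [← l, conj_pow]; group⟩
  · exact (In.tr (fun v z => i5 v (.tail _ z)) q6 ((q7 y b d).resolve_left f)).imp fun _ => And.imp_right eq₁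
  · rw [← b, ← pow_add]; exact mem_cent1.2 (Commute.self_pow _ _)

end Ch
end Cd
end CF.Bf
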