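/-
Quasithin groups of even type: models `S` or `S.2` given by permutations.
-/
import Cfsg.Agent.Known.Q17.Bq
import Cfsg.Agent.Bf.F
set_option autoImplicit false
set_option linter.unusedSectionVars false

namespace CF.Bf
open CF.Comp

noncomputable def moOK (n m k : Nat) (cH cY d : List Lv) : Bool := Nat.ble m n &&
  leq (lmap (fun v => pk (dg v) m) (gn cY)) (gn d) && Nat.beq (ord n cY) (ord m d) &&
  Nat.beq (ord n cH) (ord m d * k) && nrmOK n cY cH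
noncomputable def botOK (n : Nat) (cZ cY : List Lv) : Bool := all n cZ fun y => im (lall (comc n y) (gn cY)) (isI n y)
noncomputable def bsOK (n : Nat) (cH cY cU : List Lv) (k v : Nat) : Bool := (can n v && mem n cU v) &&
  lall (comc n v) (gn cU) && nt (isI n v) && sqI n v && sylOK n cY cU k && i2OK n cH cY
noncomputable def t3OK (n : Nat) (cY cZ cD : List Lv) (p r : Nat) (L : List Nat) (W : List (List Nat)) : Bool :=
  inOK n cY L && lall (inOK n cY) W && all n cZ fun s => im (lall (comc n s) (gn cD)) (im (Nat.beq (mulc n s s) r) (nt (mem n cY s)) &&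
    im (sqI n s) (isI n s || Nat.beq s r || lany (fun y => comc n y s && isI n (powc n y p) && nt (comc n r y)) L ||
      lany (fun w => lall (fun v => comc n v r || comc n v s) w && force (prc n w) fun x =>
        isI n (powc n x p) && Nat.beq (cjc n x r) s && Nat.beq (cjc n x s) (mulc n r s)) W))

namespace Cd
open Subgroup Cfsg CF.BG CF.Sig CF.CT CF.CmpT CF.PG CF.Bender CF.SM CF.Q16 CF.Q17
variable {n : ℕ} {H : Type*} [Group H] [Finite H] {C : Cd H n} {K T U Y Z Q : Subgroup H}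
  {c c' cH cY cZ cU cT : List Lv} {S xs ks : List ℕ} {r s u : H} {p k v w w' : ℕ} {G : Type*} [Group G] [Finite G]

theorem Ch.bot (h : C.Ch c K) (h' : C.Ch c' Z) (l : 𝐂 K ≤ Z) (q : botOK n c' c = true) : 𝐂 K = ⊥ := by
  simp only [botOK, C.bf, h.bf, h'.bf] at q
  exact eq_bot_iff.2 fun x m => q x (l m) m

theorem Ch.mo' (h : C.Ch c K) {m : ℕ} {C' : Cd G m} (t : C.Ch c' ⊤) {d : List Lv} (b : C'.Ch d ⊤)
    (o : Nat.card (Out G) = k) (q : moOK n m k c' c d = true) (z : 𝐂 K = ⊥) : Mo G K := by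
  simp only [moOK, C.bf, beq_iff, ble_iff, leq_iff] at q
  obtain ⟨⟨⟨⟨a, e⟩, f⟩, i⟩, j⟩ := q
  rw [← b.card, card_top] at f i
  exact ⟨h.nor t j, z, by rw [← card_top, t.card, i, o],
    h.eq ▸ iso C' a (h.rz.mono le_top) b.rz e b.eq.symm (h.eq ▸ h.card.trans f)⟩

theorem Ch.t3 (hY : C.Ch cY Y) (e : C.c r = v) (hp : p.Prime ∧ p ≠ 2) (rk : 2 ≤ pRank p Y)
    (hD : C.Ch c (Ep p (Y ⊓ 𝐂₁ r))) (hZ : C.Ch cZ (𝐂₁ r)) (i : I2 Y ⊤) {V : List (List ℕ)}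
    (q : t3OK n cY cZ c p v S V = true) : T2 Y p r := by
  simp only [t3OK, ← e, C.bf, hZ.bf, hD.bf, hY.bf, lany_iff, lall_iff, force_eq] at q
  refine ⟨hp, i, rk, fun s a b d f g => ?_, fun y a b f => (q.2 y (f ▸ mem_cent1.2 (mul_assoc y y y).symm) b).1 f a⟩
  rcases (q.2 s b f).2 a.sq with ((t | t) | ⟨w, m, t⟩) | ⟨w, m, t, o⟩
  · exact absurd t a.ne
  · exact absurd t d
  · obtain ⟨y, j, rfl⟩ := hY.rlz q.1.1 w m
    simp only [C.bf] at t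
    exact absurd (c1_of' g (mem_Ep ⟨j, t.1.1⟩ t.1.2)) t.2
  obtain ⟨x, j, l⟩ := ((hY.rlz (q.1.2 w m)).of (L := Y ⊓ 𝐂₁ r ⊔ Y ⊓ 𝐂₁ s) fun x z m => by
    have := t _ m
    simp only [C.bf] at this
    exact this.elim (fun q => mem_sup_left ⟨z, q⟩) fun q => mem_sup_right ⟨z, q⟩).prc
  simp only [← l, C.bf] at o
  exact ⟨x, j, o.1.1, o.1.2, o.2⟩

/-- the model, a Sylow subgroup and a 2-central involution -/
structure Bs (C : Cd H n) (G : Type*) [Group G] (cH cY cU cZ : List Lv) (v : ℕ) (Y U : Subgroup H) (u : H) : Prop where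
  hH : C.Ch cH ⊤
  hY : C.Ch cY Y
  hU : C.Ch cU U
  e : C.c u = v
  hZ : C.Ch cZ (𝐂₁ u)
  mo : Mo G Y
  syl : Syl 2 U Y
  mu : u ∈ U
  cu : u ∈ 𝐂 U
  iu : Iv u
  i2 : I2 Y ⊤

theorem exists_bs {m i : ℕ} {C' : Cd G m} {d : List Lv} (b : C'.Ch d ⊤) (o : Nat.card (Out G) = k) (hn : n ≤ 1024)
    (h1 : 1 < n) (q0 : (lall (prm n) (gn cH) && chk n cH) = true) (qY : subOK n cH cY = true) (qU : subOK n cH cU = true)
    (qm : moOK n m k cH cY d = true) (qb : bsOK n cH cY cU i v = true)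
    (z : ∀ (H : Type) [Group H] (C : Cd H n) (u : H), C.Ch cH ⊤ → C.c u = v → C.Ch cZ (⊤ ⊓ 𝐂₁ u)) {L : List ℕ}
    (qc : (inOK n cY L && sepF n L || botOK n cZ cY) = true) :
    ∃ (H : Type) (_ : Group H) (_ : Finite H) (C : Cd H n) (Y U : Subgroup H) (u : H), Bs C G cH cY cU cZ v Y U u := by
  obtain ⟨H, _, C, hH⟩ := exists_grp hn h1 q0
  have := C.finite
  obtain ⟨Y, -, hY⟩ := hH.sub qY
  obtain ⟨U, -, hU⟩ := hH.sub qU
  simp only [bsOK, Bool.and_eq_true] at qb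
  obtain ⟨⟨⟨⟨⟨⟨a1, a2⟩, a3⟩, a4⟩, a5⟩, a6⟩, a7⟩ := qb
  obtain ⟨u, mu, e⟩ := hU.rl v a1 a2
  have hZ := (z H C u hH e).top
  have s := hY.syl hU a6
  rw [← e] at a3 a4 a5
  exact ⟨H, _, ‹_›, C, Y, U, u, hH, hY, hU, e, hZ, hY.mo' hH b o qm ((Bool.or_eq_true_iff.1 qc).elim hY.sep'
    (hY.bot hZ fun _ t => c1_of' t (s.le mu))), s, mu,
    hU.cen.1 a3, ⟨mt C.isI.2 (nt_iff.1 a4), C.sqI.1 a5⟩, hH.i2 hY a7⟩

end Cd

namespace Cd.Bs
open Subgroup Cfsg CF.BG CF.Sig CF.CT CF.CmpT CF.PG CF.Bender CF.SM CF.Q16 CF.Q17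
variable {n : ℕ} {H : Type} [Group H] [Finite H] {C : Cd H n} {K T U Y Z Q : Subgroup H}
  {c c' cH cY cZ cU cT : List Lv} {S xs ks : List ℕ} {r s u : H} {p k v w w' : ℕ} {G : Type*} [Group G]
  (B : Bs C G cH cY cU cZ v Y U u)
include B

theorem el (q : (can n w && mem n cH w) = true) : ∃ r, C.c r = w := let ⟨r, _, e⟩ := B.hH.el q; ⟨r, e⟩

theorem ot (hp : p.Prime ∧ p ≠ 2) : Ot Y p := ot_of_i2 B.i2 hp

theorem z1 : ∃ K, C.Ch cZ K ∧ 𝐂 U ≤ K := ⟨_, B.hZ, fun _ t => c1_of' t B.mu⟩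

theorem z2 (z : ∃ K, C.Ch c' K ∧ 𝐂 U ≤ K) (m : (can n w && mem n cU w) = true) {f : ℕ → ℕ} (z1 : subOK n c' c = true)
    (z2 : (inOK n c' S && lall (comc n w) (gn c)) = true)
    (z3 : Nat.ble (ord n c') (Nat.mul (wlk n f S ks w 0 0) (ord n c)) = true) : ∃ K, C.Ch c K ∧ 𝐂 U ≤ K :=
  let ⟨_, a, e⟩ := B.hU.el m
  let ⟨_, h, l⟩ := z
  ⟨_, h.cz e z1 z2 z3, fun _ t => ⟨l t, c1_of' t a⟩⟩

theorem g1 (z : ∃ K, C.Ch c K ∧ 𝐂 U ≤ K) (a : a2OK n c cU v = true) (e : C.c r = w) (q : (inOK n cH S && clsOK n cU S [v, w] xs ks) = true)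
    (k : r = u ∨ Ci Y r) : G1 G := by
  have := B.mo.nor
  obtain ⟨p, q⟩ := Bool.and_eq_true_iff.1 q
  obtain ⟨K, hK, l⟩ := z
  refine ⟨H, _, ‹_›, Y, U, B.mo, B.syl, .inl (hK.a2 B.hU l B.e a), .inl (ko_of_i2 B.i2),
    fun x m i => ?_⟩
  obtain ⟨g, -, t⟩ := B.hU.cls B.syl (B.hH.rlz p) le_top q m i
  simp only [← B.e, ← e, List.mem_cons, C.eq, List.not_mem_nil, or_false] at t
  rcases t with t | t
  · exact .inl (cn_of B.syl (t ▸ B.cu))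
  · exact k.elim (fun k => .inl (cn_of B.syl (t ▸ k ▸ B.cu))) fun k => .inr ⟨g, t ▸ k⟩

theorem cl3 {i : ℕ} (qT : subOK n cH cT = true) (qs : sylOK n cH cT i = true) (e : C.c r = w) (e' : C.c s = w')
    (q : (inOK n cH S && clsOK n cT S [v, w, w'] xs ks) = true) (x : H) (j : Iv x) :
    ∃ g, g * x * g⁻¹ = u ∨ g * x * g⁻¹ = r ∨ g * x * g⁻¹ = s := by
  obtain ⟨T, -, hT⟩ := B.hH.sub qT
  obtain ⟨a, q⟩ := Bool.and_eq_true_iff.1 q
  obtain ⟨g, -, t⟩ := hT.cls (B.hH.syl hT qs) (B.hH.rlz a) le_top q trivial j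
  exact ⟨g, by simpa only [← B.e, ← e, ← e', List.mem_cons, C.eq, List.not_mem_nil, or_false] using t⟩

theorem g2 {D Q' : Subgroup H} {m k' : ℕ} (hp : p.Prime ∧ p ≠ 2) (cc : CC Y U D p m u)
    (cl : ∀ x, Iv x → ∃ g, g * x * g⁻¹ = u ∨ g * x * g⁻¹ = r ∨ g * x * g⁻¹ = s) (d : DC Y False False p k r Q)
    (d' : DC Y False False p k' s Q') : Q17.G2 G := by
  have := B.mo.nor
  refine ⟨H, _, ‹_›, Y, B.mo, ⟨U, D, p, m, u, cc⟩, fun x i => ?_⟩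
  obtain ⟨g, t | t | t⟩ := cl x i
  exacts [.inl (cn_of B.syl (t ▸ B.cu)), .inr ⟨g, p, k, Q, B.ot hp, t ▸ d⟩, .inr ⟨g, p, k', Q', B.ot hp, t ▸ d'⟩]

end Cd.Bs
end CF.Bf
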