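/-
Quasithin groups of even type: `L₂(p)`, `p ≡ ±1 (mod 8)`.
-/
import Cfsg.Agent.Known.Q17.Md
import Cfsg.Agent.GW.L2Y
import Cfsg.Agent.S2602
set_option autoImplicit false

namespace CF.Q17
open Subgroup Cfsg CF.BG CF.Sig CF.CT CF.CmpT CF.PG CF.Bender CF.SM CF.Q16 CF.Classical
open scoped MatrixGroups

namespace Lp
variable {F : Type*} [Field F] [Finite F] {U : Subgroup PGL(2, F)} {y w : PGL(2, F)}

theorem uq (h2 : (2 : F) ≠ 0) (d : 8 ∣ ♯U) (i : Iv y) (j : Iv w) (a : y ∈ 𝐂 U) (b : w ∈ 𝐂 U) : w = y := by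
  obtain ⟨Θ, t⟩ := GW.exists_tor h2 i.orderOf
  by_cases h : ∃ x ∈ Θ, x ∈ U ∧ x * x ≠ 1
  · obtain ⟨x, m, u, n⟩ := h
    exact t.eq_of_iv i.orderOf ((t.cent x m n).le (mem_cent1.2 (mem_cent.1 b x u).symm)) j.orderOf
  have l : Θ ⊓ U ≤ zpowers y := fun x m => by
    by_cases e : x = 1
    · exact e ▸ one_mem _
    · rw [t.eq_of_iv i.orderOf m.1 (Iv.orderOf ⟨e, not_not.1 fun n => h ⟨x, m.1, m.2, n⟩⟩)]
      exact mem_zpowers y
  have c1 := card_le_of_le l
  have c2 := card_inf_mul_relIndex Θ U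
  have c3 := card_mul_relIndex t.le
  have c4 : Θ.relIndex U ≤ Θ.relIndex (𝐂₁ y) := relIndex_le_of_le_right (le_cent1_iff.2 a) (relIndex_pos _ _).ne'
  rw [t.card_C, mul_comm, Nat.mul_left_inj (card_pos' Θ).ne'] at c3
  rw [i.card] at c1
  have := Nat.le_of_dvd (card_pos' U) d
  nlinarith

end Lp

theorem g1_L2p {F : Type} [Field F] [Fintype F] (p : (Fintype.card F).Prime)
    (h : Fintype.card F % 8 = 1 ∨ Fintype.card F % 8 = 7) : G1 PSL(2, F) := by
  have o : Odd (Fintype.card F) := Nat.odd_iff.2 (by omega)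
  have h2 := GW.two_ne_zero_of_odd o
  have := Fact.mk p
  have p2 := p.two_le
  obtain ⟨φ, -, -, q⟩ := Cfsg.Agent.S2602.result (F := F) (p := Fintype.card F) le_rfl (pow_one _).symm
    (by rw [pow_one]; omega)
  rw [show φ.ker = ⊤ from eq_top_iff.2 fun _ _ => Subsingleton.elim _ _, card_top, pow_one,
    Nat.gcd_eq_left (Nat.Odd.sub_odd o odd_one).two_dvd] at q
  have ix := index_psl_of_odd h2
  have cd := (psl F).card_mul_index
  have i2 : I2 (psl F) ⊤ := i2_of_card le_top (by rw [card_top, ← cd, ix, mul_comm])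
  obtain ⟨U, s⟩ := exists_syl 2 (psl F)
  have d : 2 ^ 3 ∣ ♯U := s.dvd_card (by
    have e := GW.card_psl_eq h2
    rw [Nat.card_eq_fintype_card (α := F)] at e
    refine Nat.dvd_of_mul_dvd_mul_left two_pos (e ▸ Dvd.dvd.mul_left ?_ _)
    refine (Nat.modEq_iff_dvd' (Nat.one_le_pow _ _ (by omega))).1 ?_
    have k : Fintype.card F % 16 = 1 ∨ Fintype.card F % 16 = 9 ∨ Fintype.card F % 16 = 7 ∨ Fintype.card F % 16 = 15 := by
      omega
    rw [Nat.ModEq, Nat.pow_mod]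
    rcases k with k | k | k | k <;> simp [k]) (piNat_pow_self Nat.prime_two 3)
  obtain ⟨u, m, i, c⟩ := ex_c' s.pi (le_norm_self U) le_rfl fun e => by simp [e] at d
  refine ⟨PGL(2, F), inferInstance, inferInstance, psl F, U, ⟨normalIn_top.1 ⟨le_top, i2.norm le_top⟩,
    eq_bot_iff.2 fun g m => SemidirectProduct.inl_injective ((GW.cent_Lg h2).le (mem_cent.2 (by
      rintro _ ⟨y, a, rfl⟩
      rw [← map_mul, mem_cent.1 m y a, map_mul]))), by rw [q, ← cd, ix, card_psl], ⟨pslEquiv F⟩⟩, s,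
    .inl fun y _ w _ a b e f _ _ => by rw [Lp.uq h2 d a b e f, a.sq]; exact one_mem _, .inl (ko_of_i2 i2),
    fun r k j => .inl ?_⟩
  obtain ⟨g, a, rfl⟩ := exists_conj_invol_psl h2 (s.le m) i.ne i.sq k j.ne j.sq
  exact ⟨_, s.cj_of_mem a, conj_cent c g⟩

end CF.Q17
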